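import Groth.Agent.BranchInv.Locus

/-!
# Geometric branches along integral birational maps
-/

set_option autoImplicit false
set_option linter.style.haveILetI false

universe u

open IsLocalRing TensorProduct

namespace Groth.Agent.BranchInv

/-- An integral map which is birational on the reductions. -/
structure IsBirRing (A B : Type u) [CommRing A] [CommRing B] [Algebra A B] : Prop where
  integral : Algebra.IsIntegral A B
  min : ∀ Q ∈ minimalPrimes B, Q.comap (algebraMap A B) ∈ minimalPrimes A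
  inj : ∀ Q ∈ minimalPrimes B, ∀ Q' ∈ minimalPrimes B,
    Q.comap (algebraMap A B) = Q'.comap (algebraMap A B) → Q = Q'
  surj : ∀ P ∈ minimalPrimes A, ∃ Q ∈ minimalPrimes B, Q.comap (algebraMap A B) = P
  frac : ∀ Q ∈ minimalPrimes B, ∀ b : B, ∃ a c : A, algebraMap A B a ∉ Q ∧
    algebraMap A B a * b - algebraMap A B c ∈ Q

variable {A B : Type u} [CommRing A] [CommRing B] [Algebra A B]

theorem IsBirRing.chi_bijective (h : IsBirRing A B) {P : Ideal A} [P.IsPrime] (Q : Over' B P) :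
    Function.Bijective (chi Q) := by
  haveI := h.integral
  let N := CAlg2.normRed (A ⧸ P)
  let N' := CAlg2.normRed (B ⧸ Q.1.1)
  haveI := HensBranch.normRed_isIntegral P
  haveI := HensBranch.normRed_isIntegral Q.1.1
  haveI := HensBranch.normRed_isIntegrallyClosed P
  haveI : Algebra.IsIntegral A N' := Algebra.IsIntegral.trans B
  have hkQ : ∀ b : B, algebraMap B N' b = 0 ↔ b ∈ Q.1.1 := fun b => by
    rw [← RingHom.mem_ker, HensBranch.ker_algebraMap_normRed]
  have hfrac : IsFrac A N' := fun y => by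
    obtain ⟨b₁, b₂, hb₁, hb⟩ := HensBranch.normRed_frac Q.1.1 y
    obtain ⟨a₁, c₁, ha₁, h₁⟩ := h.frac Q.1.1 Q.1.2 b₁
    obtain ⟨a₂, c₂, ha₂, h₂⟩ := h.frac Q.1.1 Q.1.2 b₂
    have e₁ : algebraMap A N' c₁ = algebraMap A N' a₁ * algebraMap B N' b₁ := by
      have := (hkQ _).2 h₁
      rw [map_sub, map_mul, sub_eq_zero, ← IsScalarTower.algebraMap_apply, ← IsScalarTower.algebraMap_apply] at this
      exact this.symm
    have e₂ : algebraMap A N' c₂ = algebraMap A N' a₂ * algebraMap B N' b₂ := by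
      have := (hkQ _).2 h₂
      rw [map_sub, map_mul, sub_eq_zero, ← IsScalarTower.algebraMap_apply, ← IsScalarTower.algebraMap_apply] at this
      exact this.symm
    refine ⟨a₂ * c₁, a₁ * c₂, ?_, ?_⟩
    · rw [map_mul, e₁]
      refine mul_ne_zero ?_ (mul_ne_zero ?_ hb₁)
      · rw [IsScalarTower.algebraMap_apply A B N']
        exact fun h0 => ha₂ ((hkQ _).1 h0)
      · rw [IsScalarTower.algebraMap_apply A B N']
        exact fun h0 => ha₁ ((hkQ _).1 h0)
    · rw [map_mul, map_mul, e₁, e₂, ← hb]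
      ring
  have hker : RingHom.ker (algebraMap A N') = RingHom.ker (algebraMap A N) := by
    rw [HensBranch.ker_algebraMap_normRed]
    refine Eq.trans ?_ Q.2
    ext a
    rw [RingHom.mem_ker, IsScalarTower.algebraMap_apply A B N', hkQ, Ideal.mem_comap]
  obtain ⟨g⟩ := exists_algHom_of_isFrac (N' := N) hfrac hker
  haveI := HensBranch.normRed_isIntegrallyClosed Q.1.1
  have h1 := algHom_ext_of_isFrac (HensBranch.normRed_frac P) le_rfl (g.comp (chi Q)) (AlgHom.id A N)
  have h2 := algHom_ext_of_isFrac hfrac le_rfl ((chi Q).comp g) (AlgHom.id A N')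
  exact ⟨Function.LeftInverse.injective (g := g) (AlgHom.congr_fun h1),
    Function.RightInverse.surjective (g := g) (AlgHom.congr_fun h2)⟩

/-- Points upstairs and downstairs. -/
theorem IsBirRing.exists_pts_equiv (h : IsBirRing A B) {C : Type u} [Field C] (j : A →+* C) :
    Nonempty ((Σ σ : {σ : B →+* C // σ.comp (algebraMap A B) = j}, Σ Q : minimalPrimes B, Pts σ.1 Q.1) ≃
      Σ P : minimalPrimes A, Pts j P.1) := by
  haveI : ∀ P : minimalPrimes A, P.1.IsPrime := fun P => P.2.1.1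
  let F : minimalPrimes B → minimalPrimes A := fun Q => ⟨_, h.min Q.1 Q.2⟩
  let G : (Σ σ : {σ : B →+* C // σ.comp (algebraMap A B) = j}, Σ Q : minimalPrimes B, Pts σ.1 Q.1) →
      Σ P : minimalPrimes A, Pts j P.1 := fun x =>
    ⟨F x.2.1, x.2.2.1.comp (chi (⟨x.2.1, rfl⟩ : Over' B (F x.2.1).1)).toRingHom, RingHom.ext fun a => by
      show x.2.2.1 (chi (⟨x.2.1, rfl⟩ : Over' B (F x.2.1).1) (algebraMap A _ a)) = j a
      rw [AlgHom.commutes, IsScalarTower.algebraMap_apply A B]
      exact (RingHom.congr_fun x.2.2.2 (algebraMap A B a)).trans (RingHom.congr_fun x.1.2 a)⟩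
  refine ⟨Equiv.ofBijective G ⟨?_, ?_⟩⟩
  · rintro ⟨⟨σ, hσ⟩, Q, υ, hυ⟩ ⟨⟨σ', hσ'⟩, Q', υ', hυ'⟩ hxy
    obtain rfl : Q = Q' := Subtype.ext (h.inj Q.1 Q.2 Q'.1 Q'.2 (congrArg (fun z => z.1.1) hxy))
    have h1 := eq_of_heq (Sigma.mk.inj_iff.mp hxy).2
    have h2 : υ = υ' := RingHom.ext fun y => by
      obtain ⟨z, rfl⟩ := (h.chi_bijective (⟨Q, rfl⟩ : Over' B (F Q).1)).2 y
      exact RingHom.congr_fun (congrArg Subtype.val h1) z
    subst h2
    obtain rfl : σ = σ' := hυ.symm.trans hυ'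
    rfl
  · rintro ⟨⟨P, hP⟩, τ⟩
    obtain ⟨Q, hQ, rfl⟩ := h.surj P hP
    let O : Over' B (Q.comap (algebraMap A B)) := ⟨⟨Q, hQ⟩, rfl⟩
    haveI : (Q.comap (algebraMap A B)).IsPrime := hP.1.1
    let e := AlgEquiv.ofBijective (chi O) (h.chi_bijective O)
    let υ : CAlg2.normRed (B ⧸ Q) →+* C := τ.1.comp e.symm.toRingHom
    let σ : B →+* C := υ.comp (algebraMap B (CAlg2.normRed (B ⧸ Q)))
    have hσ : σ.comp (algebraMap A B) = j := RingHom.ext fun a => by
      show τ.1 (e.symm (algebraMap B (CAlg2.normRed (B ⧸ Q)) (algebraMap A B a))) = j a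
      rw [← IsScalarTower.algebraMap_apply A B (CAlg2.normRed (B ⧸ Q)), e.symm.commutes]
      exact RingHom.congr_fun τ.2 a
    refine ⟨⟨⟨σ, hσ⟩, ⟨Q, hQ⟩, υ, rfl⟩, ?_⟩
    refine congrArg (Sigma.mk _) (Subtype.ext (RingHom.ext fun z => ?_))
    show τ.1 (e.symm (e z)) = τ.1 z
    rw [e.symm_apply_apply]

theorem numGeomBranches_atPrime_eq_card (p : Ideal A) [p.IsPrime] {C : Type u} [Field C] [IsAlgClosed C]
    (j : A →+* C) (hjp : RingHom.ker j = p) :
    Brnch.numGeomBranches (Localization.AtPrime p) = ENat.card (Σ P : minimalPrimes A, Pts j P.1) := by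
  let R := Localization.AtPrime p
  haveI : Module.Flat A R := IsLocalization.flat R p.primeCompl
  have hu : ∀ s : p.primeCompl, IsUnit (j s) := fun s =>
    isUnit_iff_ne_zero.2 fun h0 => s.2 (hjp.le h0)
  let jR : R →+* C := IsLocalization.lift hu
  have hjA : jR.comp (algebraMap A R) = j := IsLocalization.lift_comp hu
  have hj : RingHom.ker jR = maximalIdeal R := by
    haveI : (RingHom.ker jR).IsPrime := RingHom.ker_isPrime _
    refine (le_maximalIdeal (Ideal.IsPrime.ne_top inferInstance)).antisymm ?_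
    rw [← Localization.AtPrime.map_eq_maximalIdeal, Ideal.map_le_iff_le_comap, RingHom.comap_ker, hjA, hjp]
  rw [numGeomBranches_eq_card jR hj]
  have e1 : (Σ Q : minimalPrimes R, Pts jR Q.1) ≃ Σ P : minimalPrimes A, Σ Q : Over' R P.1, Pts jR Q.1.1 :=
    { toFun := fun x => ⟨⟨_, HensBranch.comap_minimal_of_flat (S := A) x.1.2⟩, ⟨x.1, rfl⟩, x.2⟩
      invFun := fun x => ⟨x.2.1.1, x.2.2⟩
      left_inv := fun x => rfl
      right_inv := by
        rintro ⟨⟨P, hP⟩, ⟨Q, hQ⟩, y⟩
        cases hQ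
        rfl }
  refine ENat.card_congr (e1.trans (Equiv.sigmaCongrRight fun P => ?_))
  haveI := P.2.1.1
  exact hjA ▸ Equiv.ofBijective _ (res_bijective (p := P.1) jR P.2
    (isNormalRing_localization_tensor A R (CAlg2.normRed (A ⧸ P.1)) p.primeCompl
      (NormalTensor.isNormalRing_of_ringEquiv
        (Algebra.TensorProduct.lid A (CAlg2.normRed (A ⧸ P.1))).symm.toRingEquiv (isNormalRing_normRed P.1))))

theorem nonempty_sigma_pts (p : Ideal A) [p.IsPrime] {C : Type u} [Field C] [IsAlgClosed C]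
    (j : A →+* C) (hjp : RingHom.ker j = p) : Nonempty (Σ P : minimalPrimes A, Pts j P.1) := by
  let R := Localization.AtPrime p
  have hu : ∀ s : p.primeCompl, IsUnit (j s) := fun s =>
    isUnit_iff_ne_zero.2 fun h0 => s.2 (hjp.le h0)
  obtain ⟨P, hP, hle⟩ := Ideal.exists_minimalPrimes_le (bot_le : (⊥ : Ideal A) ≤ p)
  haveI := hP.1.1
  haveI := HensBranch.normRed_isIntegral P
  obtain ⟨m, -, hm, hmp⟩ := Ideal.exists_ideal_over_prime_of_isIntegral (S := CAlg2.normRed (A ⧸ P)) p ⊥
    (show RingHom.ker (algebraMap A (CAlg2.normRed (A ⧸ P))) ≤ p by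
      rw [HensBranch.ker_algebraMap_normRed]; exact hle)
  haveI := hm
  let N := CAlg2.normRed (A ⧸ P)
  letI : Algebra (A ⧸ p) (N ⧸ m) := (Ideal.quotientMap m (algebraMap A N) hmp.ge).toAlgebra
  haveI : IsScalarTower A (A ⧸ p) (N ⧸ m) := IsScalarTower.of_algebraMap_eq fun a => rfl
  haveI : Algebra.IsIntegral A (N ⧸ m) :=
    Algebra.IsIntegral.of_surjective (Ideal.Quotient.mkₐ A m) Ideal.Quotient.mk_surjective
  haveI : Algebra.IsIntegral (A ⧸ p) (N ⧸ m) := ⟨fun x => (Algebra.IsIntegral.isIntegral (R := A) x).tower_top⟩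
  letI : Algebra (A ⧸ p) C := (Ideal.Quotient.lift p j fun a ha => hjp.ge ha).toAlgebra
  haveI : Module.IsTorsionFree (A ⧸ p) C := Module.isTorsionFree_iff_algebraMap_injective.mpr (by
    rw [RingHom.algebraMap_toAlgebra]
    exact RingHom.lift_injective_of_ker_le_ideal p (fun a ha => hjp.ge ha) hjp.le)
  haveI : Module.IsTorsionFree (A ⧸ p) (N ⧸ m) := Module.isTorsionFree_iff_algebraMap_injective.mpr
    (Ideal.quotientMap_injective' hmp.le)
  let ρ : N ⧸ m →ₐ[A ⧸ p] C := IsAlgClosed.lift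
  exact ⟨⟨⟨P, hP⟩, ρ.toRingHom.comp (Ideal.Quotient.mk m), RingHom.ext fun a => by
    show ρ (Ideal.Quotient.mk m (algebraMap A N a)) = j a
    exact ρ.commutes (Ideal.Quotient.mk p a)⟩⟩

/-- Geometric branches downstairs are one exactly when there is one geometric point above, with one branch. -/
theorem IsBirRing.isGeomUnibranch_iff (h : IsBirRing A B) (p : Ideal A) [p.IsPrime] :
    CAlg2.IsGeomUnibranch (Localization.AtPrime p) ↔
      Subsingleton {σ : B →+* AlgebraicClosure p.ResidueField // σ.comp (algebraMap A B) = algebraMap A _} ∧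
        ∀ (q : Ideal B) [q.IsPrime], q.comap (algebraMap A B) = p → CAlg2.IsGeomUnibranch (Localization.AtPrime q) := by
  haveI := h.integral
  let C := AlgebraicClosure p.ResidueField
  have hjp : RingHom.ker (algebraMap A C) = p := by
    ext a
    rw [RingHom.mem_ker, IsScalarTower.algebraMap_apply A p.ResidueField C,
      map_eq_zero_iff _ (RingHom.injective _), Ideal.algebraMap_residueField_eq_zero]
  obtain ⟨e⟩ := h.exists_pts_equiv (algebraMap A C)
  rw [← BranchLib.numGeomBranches_eq_one_iff, numGeomBranches_atPrime_eq_card p (algebraMap A C) hjp,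
    ← ENat.card_congr e, BranchLib.enat_card_eq_one]
  have hne : ∀ σ : {σ : B →+* C // σ.comp (algebraMap A B) = algebraMap A C},
      Nonempty (Σ Q : minimalPrimes B, Pts σ.1 Q.1) := fun σ => by
    haveI : (RingHom.ker σ.1).IsPrime := RingHom.ker_isPrime _
    exact nonempty_sigma_pts (RingHom.ker σ.1) σ.1 rfl
  constructor
  · rintro ⟨hs, -⟩
    refine ⟨⟨fun σ σ' => ?_⟩, fun q _ hq => ?_⟩
    · exact congrArg Sigma.fst (hs.elim ⟨σ, (hne σ).some⟩ ⟨σ', (hne σ').some⟩)
    · letI : Algebra (A ⧸ p) (B ⧸ q) := (Ideal.quotientMap q (algebraMap A B) hq.ge).toAlgebra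
      haveI : IsScalarTower A (A ⧸ p) (B ⧸ q) := IsScalarTower.of_algebraMap_eq fun a => rfl
      haveI : Algebra.IsIntegral A (B ⧸ q) :=
        Algebra.IsIntegral.of_surjective (Ideal.Quotient.mkₐ A q) Ideal.Quotient.mk_surjective
      haveI : Algebra.IsIntegral (A ⧸ p) (B ⧸ q) := ⟨fun x => (Algebra.IsIntegral.isIntegral (R := A) x).tower_top⟩
      letI : Algebra (A ⧸ p) C := (Ideal.Quotient.lift p (algebraMap A C) fun a ha => hjp.ge ha).toAlgebra
      haveI : Module.IsTorsionFree (A ⧸ p) C := Module.isTorsionFree_iff_algebraMap_injective.mpr (by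
        rw [RingHom.algebraMap_toAlgebra]
        exact RingHom.lift_injective_of_ker_le_ideal p (fun a ha => hjp.ge ha) hjp.le)
      haveI : Module.IsTorsionFree (A ⧸ p) (B ⧸ q) := Module.isTorsionFree_iff_algebraMap_injective.mpr
        (Ideal.quotientMap_injective' hq.le)
      let ρ : B ⧸ q →ₐ[A ⧸ p] C := IsAlgClosed.lift
      have hσ : (ρ.toRingHom.comp (Ideal.Quotient.mk q)).comp (algebraMap A B) = algebraMap A C :=
        RingHom.ext fun a => ρ.commutes (Ideal.Quotient.mk p a)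
      let σ : {σ : B →+* C // σ.comp (algebraMap A B) = algebraMap A C} := ⟨_, hσ⟩
      have hker : RingHom.ker σ.1 = q := by
        refine le_antisymm (fun b hb => ?_) fun b hb => ?_
        · by_contra hbq
          have hq' : RingHom.ker ρ.toRingHom = ⊥ := by
            haveI : (RingHom.ker ρ.toRingHom).IsPrime := RingHom.ker_isPrime _
            refine Ideal.eq_bot_of_comap_eq_bot (R := A ⧸ p) ?_
            rw [RingHom.comap_ker, show ρ.toRingHom.comp (algebraMap (A ⧸ p) (B ⧸ q)) = algebraMap (A ⧸ p) C from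
              ρ.comp_algebraMap]
            exact (RingHom.injective_iff_ker_eq_bot _).mp (FaithfulSMul.algebraMap_injective _ _)
          have : Ideal.Quotient.mk q b ∈ RingHom.ker ρ.toRingHom := hb
          rw [hq', Ideal.mem_bot, Ideal.Quotient.eq_zero_iff_mem] at this
          exact hbq this
        · show ρ (Ideal.Quotient.mk q b) = 0
          rw [Ideal.Quotient.eq_zero_iff_mem.mpr hb, map_zero]
      rw [← BranchLib.numGeomBranches_eq_one_iff, numGeomBranches_atPrime_eq_card q σ.1 hker,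
        BranchLib.enat_card_eq_one]
      exact ⟨⟨fun x y => eq_of_heq (Sigma.mk.inj_iff.mp (hs.elim ⟨σ, x⟩ ⟨σ, y⟩)).2⟩, hne σ⟩
  · rintro ⟨hs, hgu⟩
    refine ⟨⟨?_⟩, ?_⟩
    · rintro ⟨σ, x⟩ ⟨σ', y⟩
      obtain rfl : σ = σ' := hs.elim σ σ'
      haveI : (RingHom.ker σ.1).IsPrime := RingHom.ker_isPrime _
      have h1 := hgu (RingHom.ker σ.1) (by rw [RingHom.comap_ker, σ.2, hjp])
      rw [← BranchLib.numGeomBranches_eq_one_iff, numGeomBranches_atPrime_eq_card _ σ.1 rfl,
        BranchLib.enat_card_eq_one] at h1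
      exact congrArg _ (h1.1.elim x y)
    · obtain ⟨z⟩ := nonempty_sigma_pts p (algebraMap A C) hjp
      exact ⟨e.symm z⟩

end Groth.Agent.BranchInv
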