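import Groth.Agent.BranchInv.RadicialPt

/-!
# Geometric branches along integral birational morphisms
-/

set_option autoImplicit false
set_option linter.style.haveILetI false
set_option backward.isDefEq.respectTransparency false

universe u

open CategoryTheory CategoryTheory.Limits AlgebraicGeometry IsLocalRing

namespace Groth.Agent.BranchInv

variable {X Y : Scheme.{u}}

theorem exists_eval_hom' {U : Y.Opens} (hU : IsAffineOpen U) (p : PrimeSpectrum Γ(Y, U)) {y : Y}
    (hy : hU.fromSpec p = y) :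
    ∃ ε : Γ(Y, U) →+* Y.residueField y,
      Spec.map (CommRingCat.ofHom ε) ≫ hU.fromSpec = Y.fromSpecResidueField y ∧
      RingHom.ker ε = p.asIdeal ∧ ∀ z, ∃ a c, ε a ≠ 0 ∧ ε a * z = ε c := by
  subst hy
  exact exists_eval_hom hU p

/-- An element integral over an algebraically closed field comes from it. -/
theorem exists_preimage_of_isAlgClosed {A C K : Type u} [CommRing A] [Field C] [IsAlgClosed C] [Field K]
    (j : A →+* C) (η : C →+* K) {x : K} (hx : (η.comp j).IsIntegralElem x) : ∃ c, η c = x := by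
  letI : Algebra C K := η.toAlgebra
  have hi : IsIntegral C x := by
    obtain ⟨P, hP, hPx⟩ := hx
    refine ⟨P.map j, hP.map _, ?_⟩
    rw [Polynomial.eval₂_map]
    exact hPx
  exact minpoly.mem_range_of_degree_eq_one C x
    (IsAlgClosed.degree_eq_one_of_irreducible C (minpoly.irreducible hi))

/-- Injectivity of geometric points can be tested in one algebraically closed field. -/
theorem hom_eq_of_subsingleton {A B : Type u} [CommRing A] [CommRing B] (φ : A →+* B) (hφ : φ.IsIntegral)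
    (p : Ideal A) [p.IsPrime]
    (hs : Subsingleton {σ : B →+* AlgebraicClosure p.ResidueField //
      σ.comp φ = algebraMap A (AlgebraicClosure p.ResidueField)})
    {K : Type u} [Field K] (α β : B →+* K) (hαβ : α.comp φ = β.comp φ) (hker : RingHom.ker (α.comp φ) = p) :
    α = β := by
  let K' := AlgebraicClosure K
  let C := AlgebraicClosure p.ResidueField
  let j' : A →+* K' := (algebraMap K K').comp (α.comp φ)
  have hj' : RingHom.ker j' = p := by
    rw [show RingHom.ker j' = RingHom.ker (α.comp φ) from RingHom.ker_comp_of_injective _ (algebraMap K K').injective]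
    exact hker
  have hu : p.primeCompl ≤ Submonoid.comap j' (IsUnit.submonoid K') :=
    fun a ha => isUnit_iff_ne_zero.2 fun h0 => ha (hj'.le h0)
  let ι : p.ResidueField →+* K' := Ideal.ResidueField.lift p j' hj'.ge hu
  letI : Algebra p.ResidueField K' := ι.toAlgebra
  let η : C →ₐ[p.ResidueField] K' := IsAlgClosed.lift
  have hη : η.toRingHom.comp (algebraMap A C) = j' := RingHom.ext fun a => by
    show η (algebraMap A C a) = j' a
    rw [IsScalarTower.algebraMap_apply A p.ResidueField C, η.commutes]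
    exact Ideal.ResidueField.lift_algebraMap p j' hj'.ge hu a
  have key : ∀ γ : B →+* K', γ.comp φ = j' →
      ∃ σ : {σ : B →+* C // σ.comp φ = algebraMap A C}, η.toRingHom.comp σ.1 = γ := by
    intro γ hγ
    have hmem : ∀ b, ∃ c, η c = γ b := fun b => by
      refine exists_preimage_of_isAlgClosed (algebraMap A C) η.toRingHom ?_
      rw [hη, ← hγ]
      obtain ⟨P, hP, hPb⟩ := hφ b
      exact ⟨P, hP, by rw [← Polynomial.hom_eval₂, hPb, map_zero]⟩
    choose σ hσ using hmem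
    have hinj : Function.Injective η := η.toRingHom.injective
    let s : B →+* C :=
      { toFun := σ
        map_one' := hinj (by rw [hσ, map_one, map_one])
        map_mul' := fun x y => hinj (by rw [hσ, map_mul, map_mul, hσ, hσ])
        map_zero' := hinj (by rw [hσ, map_zero, map_zero])
        map_add' := fun x y => hinj (by rw [hσ, map_add, map_add, hσ, hσ]) }
    refine ⟨⟨s, RingHom.ext fun a => hinj ?_⟩, RingHom.ext hσ⟩
    exact (hσ (φ a)).trans ((RingHom.congr_fun hγ a).trans (RingHom.congr_fun hη a).symm)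
  obtain ⟨σ, hσ⟩ := key ((algebraMap K K').comp α) (RingHom.comp_assoc _ _ _)
  obtain ⟨τ, hτ⟩ := key ((algebraMap K K').comp β) (by rw [RingHom.comp_assoc, ← hαβ])
  rw [hs.elim σ τ, hτ] at hσ
  exact RingHom.ext fun b => (algebraMap K K').injective (RingHom.congr_fun hσ b).symm

theorem ptsInj_iff_subsingleton (f : X ⟶ Y) [IsIntegralHom f] {U : Y.Opens} (hU : IsAffineOpen U)
    (p : PrimeSpectrum Γ(Y, U)) :
    PtsInj f (hU.fromSpec p) ↔
      Subsingleton {σ : Γ(X, f ⁻¹ᵁ U) →+* AlgebraicClosure p.asIdeal.ResidueField //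
        σ.comp (f.appLE U (f ⁻¹ᵁ U) le_rfl).hom = algebraMap _ _} := by
  have hV : IsAffineOpen (f ⁻¹ᵁ U) := hU.preimage f
  have hsq := IsAffineOpen.SpecMap_appLE_fromSpec f hU hV le_rfl
  have hφ : (f.appLE U (f ⁻¹ᵁ U) le_rfl).hom.IsIntegral := by
    rw [← Scheme.Hom.app_eq_appLE]
    exact f.isIntegral_app U hU
  constructor
  · intro h
    refine ⟨fun σ τ => Subtype.ext ?_⟩
    have hw : ∀ ρ : {σ : Γ(X, f ⁻¹ᵁ U) →+* AlgebraicClosure p.asIdeal.ResidueField //
        σ.comp (f.appLE U (f ⁻¹ᵁ U) le_rfl).hom = algebraMap _ _},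
        (Spec.map (CommRingCat.ofHom ρ.1) ≫ hV.fromSpec) ≫ f =
        Spec.map (CommRingCat.ofHom (algebraMap Γ(Y, U) (AlgebraicClosure p.asIdeal.ResidueField))) ≫ hU.fromSpec :=
      fun ρ => by
        rw [Category.assoc, ← hsq, ← Category.assoc, ← Spec.map_comp]
        exact congrArg (fun m => Spec.map m ≫ hU.fromSpec) (CommRingCat.hom_ext ρ.2)
    refine congrArg CommRingCat.Hom.hom (Spec.map_injective ((cancel_mono hV.fromSpec).1
      (h _ (Spec.map (CommRingCat.ofHom σ.1) ≫ hV.fromSpec) (Spec.map (CommRingCat.ofHom τ.1) ≫ hV.fromSpec)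
        ((hw σ).trans (hw τ).symm) ?_)))
    rw [hw σ, Scheme.Hom.comp_apply]
    refine congrArg _ (PrimeSpectrum.ext (Ideal.ext fun a => ?_))
    refine (comap_maximalIdeal_field (algebraMap Γ(Y, U) (AlgebraicClosure p.asIdeal.ResidueField)) a).trans ?_
    rw [IsScalarTower.algebraMap_apply Γ(Y, U) p.asIdeal.ResidueField (AlgebraicClosure p.asIdeal.ResidueField),
      map_eq_zero_iff _ (RingHom.injective _), Ideal.algebraMap_residueField_eq_zero]
  · intro hs K _ a b hab hy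
    have hpU : hU.fromSpec p ∈ U := by
      have : hU.fromSpec p ∈ Set.range hU.fromSpec := ⟨p, rfl⟩
      rwa [hU.range_fromSpec] at this
    have hrange : ∀ c : Spec (CommRingCat.of K) ⟶ X, (c ≫ f) (closedPoint K) = hU.fromSpec p →
        Set.range c ⊆ Set.range hV.fromSpec := fun c hc => by
      rintro _ ⟨z, rfl⟩
      rw [hV.range_fromSpec, Subsingleton.elim z (closedPoint K)]
      show f (c (closedPoint K)) ∈ U
      rw [← Scheme.Hom.comp_apply, hc]
      exact hpU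
    obtain ⟨α, hα⟩ := Spec.map_surjective (IsOpenImmersion.lift hV.fromSpec a (hrange a hy))
    obtain ⟨β, hβ⟩ := Spec.map_surjective (IsOpenImmersion.lift hV.fromSpec b (hrange b (by rw [← hab]; exact hy)))
    have ha : Spec.map α ≫ hV.fromSpec = a := by rw [hα, IsOpenImmersion.lift_fac]
    have hb : Spec.map β ≫ hV.fromSpec = b := by rw [hβ, IsOpenImmersion.lift_fac]
    subst ha hb
    rw [Category.assoc, Category.assoc, ← hsq, ← Category.assoc, ← Category.assoc, ← Spec.map_comp,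
      ← Spec.map_comp] at hab
    have hab' : α.hom.comp (f.appLE U (f ⁻¹ᵁ U) le_rfl).hom = β.hom.comp (f.appLE U (f ⁻¹ᵁ U) le_rfl).hom :=
      congrArg CommRingCat.Hom.hom (Spec.map_injective ((cancel_mono hU.fromSpec).1 hab))
    rw [Category.assoc, ← hsq, ← Category.assoc, ← Spec.map_comp, Scheme.Hom.comp_apply] at hy
    have hp := congrArg PrimeSpectrum.asIdeal (hU.fromSpec.isOpenEmbedding.injective hy)
    have hker : RingHom.ker (α.hom.comp (f.appLE U (f ⁻¹ᵁ U) le_rfl).hom) = p.asIdeal := by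
      ext a
      rw [RingHom.mem_ker, ← comap_maximalIdeal_field]
      exact SetLike.ext_iff.mp hp a
    rw [CommRingCat.hom_ext (hom_eq_of_subsingleton _ hφ p.asIdeal hs α.hom β.hom hab' hker)]

theorem isBirRing_appLE (f : X ⟶ Y) [IsIntegralHom f] (hf : RadPt.IsBirational f) {U : Y.Opens}
    (hU : IsAffineOpen U) :
    @IsBirRing Γ(Y, U) Γ(X, f ⁻¹ᵁ U) _ _ (f.appLE U (f ⁻¹ᵁ U) le_rfl).hom.toAlgebra := by
  letI := (f.appLE U (f ⁻¹ᵁ U) le_rfl).hom.toAlgebra
  have hV : IsAffineOpen (f ⁻¹ᵁ U) := hU.preimage f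
  have hsq := IsAffineOpen.SpecMap_appLE_fromSpec f hU hV le_rfl
  have hmap : ∀ Q : PrimeSpectrum Γ(X, f ⁻¹ᵁ U),
      f (hV.fromSpec Q) = hU.fromSpec (Q.comap (f.appLE U (f ⁻¹ᵁ U) le_rfl).hom) := fun Q => by
    rw [← Scheme.Hom.comp_apply, ← hsq, Scheme.Hom.comp_apply]
    rfl
  have hmin : ∀ Q : PrimeSpectrum Γ(X, f ⁻¹ᵁ U), Q.asIdeal ∈ minimalPrimes _ →
      (Q.asIdeal.comap (f.appLE U (f ⁻¹ᵁ U) le_rfl).hom) ∈ minimalPrimes _ := fun Q hQ => by
    have := hf.1.mapsTo ((fromSpec_mem_genericPoints_iff hV Q).2 hQ)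
    rw [hmap] at this
    exact (fromSpec_mem_genericPoints_iff hU _).1 this
  refine { integral := ?_, min := ?_, inj := ?_, surj := ?_, frac := ?_ }
  · have hφ : (f.appLE U (f ⁻¹ᵁ U) le_rfl).hom.IsIntegral := by
      rw [← Scheme.Hom.app_eq_appLE]
      exact f.isIntegral_app U hU
    exact ⟨hφ⟩
  · exact fun Q hQ => hmin ⟨Q, hQ.1.1⟩ hQ
  · intro Q hQ Q' hQ' heq
    refine congrArg PrimeSpectrum.asIdeal (hV.fromSpec.isOpenEmbedding.injective
      (hf.1.injOn ((fromSpec_mem_genericPoints_iff hV ⟨Q, hQ.1.1⟩).2 hQ)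
        ((fromSpec_mem_genericPoints_iff hV ⟨Q', hQ'.1.1⟩).2 hQ') ?_))
    rw [hmap, hmap]
    exact congrArg _ (PrimeSpectrum.ext heq)
  · intro P hP
    obtain ⟨x, hx, hxP⟩ := hf.1.surjOn ((fromSpec_mem_genericPoints_iff hU ⟨P, hP.1.1⟩).2 hP)
    have hxV : x ∈ Set.range hV.fromSpec := by
      rw [hV.range_fromSpec]
      show f x ∈ U
      rw [hxP]
      exact hU.range_fromSpec.le ⟨_, rfl⟩
    obtain ⟨Q, rfl⟩ := hxV
    refine ⟨Q.asIdeal, (fromSpec_mem_genericPoints_iff hV Q).1 hx, ?_⟩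
    rw [hmap] at hxP
    exact congrArg PrimeSpectrum.asIdeal (hU.fromSpec.isOpenEmbedding.injective hxP)
  · intro Q hQ b
    let q : PrimeSpectrum Γ(X, f ⁻¹ᵁ U) := ⟨Q, hQ.1.1⟩
    have hx := hf.1.mapsTo ((fromSpec_mem_genericPoints_iff hV q).2 hQ)
    obtain ⟨εV, heV, hkV, -⟩ := exists_eval_hom' hV q rfl
    obtain ⟨εU, heU, hkU, hfr⟩ := exists_eval_hom' hU (q.comap (f.appLE U (f ⁻¹ᵁ U) le_rfl).hom) (hmap q).symm
    have hbij := (hf.2 _ hx).2 (hV.fromSpec q) rfl
    have hc : εV.comp (f.appLE U (f ⁻¹ᵁ U) le_rfl).hom = (f.residueFieldMap (hV.fromSpec q)).hom.comp εU := by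
      have h1 : Spec.map (CommRingCat.ofHom εV) ≫ Spec.map (f.appLE U (f ⁻¹ᵁ U) le_rfl) ≫ hU.fromSpec =
          Spec.map (f.residueFieldMap (hV.fromSpec q)) ≫ Spec.map (CommRingCat.ofHom εU) ≫ hU.fromSpec := by
        rw [hsq, ← Category.assoc, heV, heU, ← Scheme.Hom.SpecMap_residueFieldMap_fromSpecResidueField f]
      rw [← Category.assoc, ← Category.assoc, cancel_mono, ← Spec.map_comp, ← Spec.map_comp] at h1
      exact congrArg CommRingCat.Hom.hom (Spec.map_injective h1)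
    obtain ⟨w, hw⟩ := hbij.2 (εV b)
    obtain ⟨a, c, ha, hac⟩ := hfr w
    refine ⟨a, c, fun hmem => ha (hbij.1 ?_), ?_⟩
    · rw [map_zero]
      exact (RingHom.congr_fun hc a).symm.trans (hkV.ge hmem)
    · refine hkV.le (RingHom.mem_ker.mpr ?_)
      rw [map_sub, map_mul, sub_eq_zero]
      show εV.comp (f.appLE U (f ⁻¹ᵁ U) le_rfl).hom a * εV b = εV.comp (f.appLE U (f ⁻¹ᵁ U) le_rfl).hom c
      rw [hc, ← hw, RingHom.comp_apply, RingHom.comp_apply, ← map_mul, hac]

theorem isGeomUnibranch_stalk_iff {U : Y.Opens} (hU : IsAffineOpen U) (y : Y) (hy : y ∈ U) :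
    CAlg2.IsGeomUnibranch (Y.presheaf.stalk y) ↔
      CAlg2.IsGeomUnibranch (Localization.AtPrime (hU.primeIdealOf ⟨y, hy⟩).asIdeal) := by
  letI := TopCat.Presheaf.algebra_section_stalk Y.presheaf (⟨y, hy⟩ : U)
  haveI : IsLocalization.AtPrime (Y.presheaf.stalk y) (hU.primeIdealOf ⟨y, hy⟩).asIdeal :=
    hU.isLocalization_stalk ⟨y, hy⟩
  let e : Y.presheaf.stalk y ≃ₐ[Γ(Y, U)] Localization.AtPrime (hU.primeIdealOf ⟨y, hy⟩).asIdeal :=
    IsLocalization.algEquiv (hU.primeIdealOf ⟨y, hy⟩).asIdeal.primeCompl _ _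
  exact ⟨fun h => SteinConn.isGeomUnibranch_of_ringEquiv e.toRingEquiv h,
    fun h => SteinConn.isGeomUnibranch_of_ringEquiv e.symm.toRingEquiv h⟩

/-- Being geometrically unibranch below an integral birational morphism. -/
theorem isGeomUnibranch_iff_ptsInj (f : X ⟶ Y) [IsIntegralHom f] (hf : RadPt.IsBirational f) (y : Y) :
    CAlg2.IsGeomUnibranch (Y.presheaf.stalk y) ↔
      PtsInj f y ∧ ∀ x : X, f x = y → CAlg2.IsGeomUnibranch (X.presheaf.stalk x) := by
  obtain ⟨U, hU, hy, -⟩ :=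
    exists_isAffineOpen_mem_and_subset (x := y) (U := ⊤) (by trivial)
  have hV : IsAffineOpen (f ⁻¹ᵁ U) := hU.preimage f
  let p := hU.primeIdealOf ⟨y, hy⟩
  have hp : hU.fromSpec p = y := hU.fromSpec_primeIdealOf ⟨y, hy⟩
  letI := (f.appLE U (f ⁻¹ᵁ U) le_rfl).hom.toAlgebra
  have hR : CAlg2.IsGeomUnibranch (Y.presheaf.stalk y) ↔ CAlg2.IsGeomUnibranch (Localization.AtPrime p.asIdeal) :=
    isGeomUnibranch_stalk_iff hU y hy
  have hS : ∀ (x : X) (hx : x ∈ f ⁻¹ᵁ U), CAlg2.IsGeomUnibranch (X.presheaf.stalk x) ↔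
      CAlg2.IsGeomUnibranch (Localization.AtPrime (hV.primeIdealOf ⟨x, hx⟩).asIdeal) :=
    isGeomUnibranch_stalk_iff hV
  rw [hR, (isBirRing_appLE f hf hU).isGeomUnibranch_iff p.asIdeal]
  refine and_congr ?_ ⟨fun h x hx => ?_, fun h q hq hqp => ?_⟩
  · conv_rhs => rw [← hp]
    exact (ptsInj_iff_subsingleton f hU p).symm
  · have hxU : x ∈ f ⁻¹ᵁ U := by
      show f x ∈ U
      rw [hx]; exact hy
    refine (hS x hxU).2 (h _ ?_)
    refine congrArg PrimeSpectrum.asIdeal (?_ : (hV.primeIdealOf ⟨x, hxU⟩).comap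
      (f.appLE U (f ⁻¹ᵁ U) le_rfl).hom = p)
    rw [IsAffineOpen.comap_primeIdealOf_appLE U hU _ hV le_rfl hxU]
    exact congrArg hU.primeIdealOf (Subtype.ext hx)
  · haveI := hq
    obtain ⟨x, hxU, hxq⟩ : ∃ (x : X) (hx : x ∈ f ⁻¹ᵁ U), hV.primeIdealOf ⟨x, hx⟩ = ⟨q, hq⟩ := by
      have hx : hV.fromSpec ⟨q, hq⟩ ∈ f ⁻¹ᵁ U := hV.range_fromSpec.le ⟨_, rfl⟩
      exact ⟨_, hx, hV.fromSpec.isOpenEmbedding.injective (hV.fromSpec_primeIdealOf ⟨_, hx⟩)⟩
    have hfx : f x = y := by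
      have h1 := congrArg (fun r => hU.fromSpec (PrimeSpectrum.comap (f.appLE U (f ⁻¹ᵁ U) le_rfl).hom r)) hxq
      simp only [IsAffineOpen.comap_primeIdealOf_appLE U hU _ hV le_rfl hxU, IsAffineOpen.fromSpec_primeIdealOf] at h1
      rw [h1, ← hp]
      exact congrArg _ (PrimeSpectrum.ext hqp)
    have h2 := (hS x hxU).1 (h x hfx)
    have h3 : ∀ r : PrimeSpectrum Γ(X, f ⁻¹ᵁ U), r = ⟨q, hq⟩ →
        CAlg2.IsGeomUnibranch (Localization.AtPrime r.asIdeal) → CAlg2.IsGeomUnibranch (Localization.AtPrime q) := by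
      rintro _ rfl hr
      exact hr
    exact h3 _ hxq h2

end Groth.Agent.BranchInv
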