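import Groth.Agent.HensBranch.Branches
import Groth.Agent.NormalTensor.Sep
import Mathlib.RingTheory.IntegralClosure.IsIntegralClosure.Basic

/-!
# Maps between birational integral extensions, minimal primes of normal rings
-/

set_option autoImplicit false
set_option linter.style.haveILetI false

universe u

namespace Groth.Agent.BranchInv

/-- Every element is a fraction of two elements of the base. -/
def IsFrac (A N : Type u) [CommRing A] [CommRing N] [Algebra A N] : Prop :=
  ∀ x : N, ∃ a b : A, algebraMap A N a ≠ 0 ∧ algebraMap A N a * x = algebraMap A N b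

theorem algHom_ext_of_isFrac {A N N' : Type u} [CommRing A] [CommRing N] [Algebra A N] [CommRing N']
    [IsDomain N'] [Algebra A N'] (h : IsFrac A N)
    (hker : RingHom.ker (algebraMap A N') ≤ RingHom.ker (algebraMap A N)) (f g : N →ₐ[A] N') :
    f = g := by
  refine AlgHom.ext fun x => ?_
  obtain ⟨a, b, ha, hab⟩ := h x
  have hf := congrArg f hab
  have hg := congrArg g hab
  rw [map_mul, AlgHom.commutes, AlgHom.commutes] at hf hg
  exact mul_left_cancel₀ (fun h0 => ha (hker h0)) (hf.trans hg.symm)

/-- A birational integral extension maps to every integrally closed one. -/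
theorem exists_algHom_of_isFrac {A N N' : Type u} [CommRing A] [CommRing N] [IsDomain N] [Algebra A N]
    [Algebra.IsIntegral A N] [CommRing N'] [IsDomain N'] [IsIntegrallyClosed N'] [Algebra A N']
    (h : IsFrac A N) (hker : RingHom.ker (algebraMap A N) = RingHom.ker (algebraMap A N')) :
    Nonempty (N →ₐ[A] N') := by
  classical
  let F := FractionRing N'
  have hF : ∀ a, algebraMap A F a = algebraMap N' F (algebraMap A N' a) :=
    fun a => IsScalarTower.algebraMap_apply A N' F a
  have hz : ∀ a, algebraMap A F a = 0 ↔ algebraMap A N a = 0 := fun a => by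
    rw [hF, map_eq_zero_iff _ (IsFractionRing.injective N' F), ← RingHom.mem_ker, ← hker,
      RingHom.mem_ker]
  have heq : ∀ a b, algebraMap A N a = algebraMap A N b → algebraMap A F a = algebraMap A F b :=
    fun a b e => sub_eq_zero.mp (by rw [← map_sub, hz, map_sub, e, sub_self])
  choose a b ha hab using h
  let g : N → F := fun x => algebraMap A F (b x) / algebraMap A F (a x)
  have key : ∀ x c d, algebraMap A N c ≠ 0 → algebraMap A N c * x = algebraMap A N d →
      g x = algebraMap A F d / algebraMap A F c := fun x c d hc hcd => by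
    rw [div_eq_div_iff (fun e => ha x ((hz _).mp e)) (fun e => hc ((hz _).mp e)), ← map_mul, ← map_mul]
    refine heq _ _ ?_
    rw [map_mul, map_mul, ← hab x, ← hcd]
    ring
  have galg : ∀ r, g (algebraMap A N r) = algebraMap A F r := fun r => by
    rw [key _ 1 r (by rw [map_one]; exact one_ne_zero) (by rw [map_one, one_mul]), map_one, div_one]
  have ne : ∀ x, algebraMap A F (a x) ≠ 0 := fun x e => ha x ((hz _).mp e)
  let G : N →ₐ[A] F :=
    { toFun := g
      map_one' := by rw [← (algebraMap A N).map_one, galg, map_one]
      map_zero' := by rw [← (algebraMap A N).map_zero, galg, map_zero]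
      map_mul' := fun x y => by
        rw [key (x * y) (a x * a y) (b x * b y) (by rw [map_mul]; exact mul_ne_zero (ha x) (ha y))
          (by rw [map_mul, map_mul, ← hab x, ← hab y]; ring), map_mul, map_mul, ← div_mul_div_comm]
      map_add' := fun x y => by
        rw [key (x + y) (a x * a y) (b x * a y + a x * b y) (by rw [map_mul]; exact mul_ne_zero (ha x) (ha y))
          (by rw [map_mul, map_add, map_mul, map_mul, ← hab x, ← hab y]; ring), map_mul, map_add,
          map_mul, map_mul, ← div_add_div _ _ (ne x) (ne y)]
      commutes' := galg }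
  have hint : ∀ x, ∃ y, algebraMap N' F y = G x := fun x =>
    IsIntegrallyClosed.isIntegral_iff.mp (((Algebra.IsIntegral.isIntegral (R := A) x).map G).tower_top)
  choose y hy using hint
  have hinj := IsFractionRing.injective N' F
  exact ⟨{ toFun := y
           map_one' := hinj (by rw [hy, map_one, map_one])
           map_zero' := hinj (by rw [hy, map_zero, map_zero])
           map_mul' := fun u v => hinj (by rw [hy, map_mul, map_mul, hy, hy])
           map_add' := fun u v => hinj (by rw [hy, map_add, map_add, hy, hy])
           commutes' := fun r => hinj (by rw [hy, AlgHom.commutes, hF]) }⟩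

/-- In a normal ring the quotient by a minimal prime is an integrally closed domain. -/
theorem isIntegrallyClosed_quotient_minimal {D : Type u} [CommRing D] (h : EGA4.IsNormalRing D)
    {P : Ideal D} (hP : P ∈ minimalPrimes D) [P.IsPrime] : IsIntegrallyClosed (D ⧸ P) := by
  refine IsIntegrallyClosed.of_localization_maximal fun m _ hm => ?_
  let M := m.comap (Ideal.Quotient.mk P)
  haveI : M.IsPrime := Ideal.IsPrime.comap _
  have hPM : P ≤ M := fun x hx => by
    show Ideal.Quotient.mk P x ∈ m
    rw [Ideal.Quotient.eq_zero_iff_mem.mpr hx]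
    exact m.zero_mem
  haveI := (h M).1
  let K0 := RingHom.ker (algebraMap D (Localization.AtPrime M))
  have hK : K0 ≤ P := fun x hx => by
    obtain ⟨s, hs⟩ := (IsLocalization.map_eq_zero_iff M.primeCompl (Localization.AtPrime M) x).mp hx
    refine ((Ideal.IsPrime.mem_or_mem ‹P.IsPrime›) (show (s : D) * x ∈ P from hs ▸ P.zero_mem)).resolve_left
      fun h' => s.2 (hPM h')
  have hKP : P ≤ K0 := hP.2 ⟨RingHom.ker_isPrime _, bot_le⟩ hK
  exact ((NormalTensor.normal_atPrime_iff (Ideal.Quotient.mk P) Ideal.Quotient.mk_surjective M m rfl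
    fun x hx => by
      obtain ⟨s, hs⟩ := (IsLocalization.map_eq_zero_iff M.primeCompl (Localization.AtPrime M) x).mp
        (hKP (Ideal.Quotient.eq_zero_iff_mem.mp hx))
      exact ⟨s, s.2, hs⟩).mp (h M)).2

/-- Two minimal primes of a normal ring inside one prime coincide. -/
theorem minimal_unique_of_isNormalRing {D : Type u} [CommRing D] (h : EGA4.IsNormalRing D)
    (M : Ideal D) [M.IsPrime] {P P' : Ideal D} (hP : P ∈ minimalPrimes D) (hP' : P' ∈ minimalPrimes D)
    (hle : P ≤ M) (hle' : P' ≤ M) : P = P' := by
  haveI := (h M).1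
  have key : ∀ Q : Ideal D, Q ∈ minimalPrimes D → Q ≤ M →
      Q = RingHom.ker (algebraMap D (Localization.AtPrime M)) := fun Q hQ hQM => by
    have h1 : RingHom.ker (algebraMap D (Localization.AtPrime M)) ≤ Q := fun x hx => by
      obtain ⟨s, hs⟩ := (IsLocalization.map_eq_zero_iff M.primeCompl (Localization.AtPrime M) x).mp hx
      exact (hQ.1.1.mem_or_mem (show (s : D) * x ∈ Q from hs ▸ Q.zero_mem)).resolve_left
        fun h' => s.2 (hQM h')
    exact le_antisymm (hQ.2 ⟨RingHom.ker_isPrime _, bot_le⟩ h1) h1
  rw [key P hP hle, key P' hP' hle']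

end Groth.Agent.BranchInv
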