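import Groth.Agent.BranchInv.Normal

/-!
# Minimal primes of (strict) henselizations, and smooth localisations
-/

set_option autoImplicit false
set_option linter.style.haveILetI false

universe u

open IsLocalRing

namespace Groth.Agent.BranchInv

theorem encard_minimalPrimes_strictHenselization (A S : Type u) [CommRing A] [IsLocalRing A] [CommRing S]
    [IsLocalRing S] [Algebra A S] [IsLocalHom (algebraMap A S)] [Hensel.IsStrictHenselization A S] :
    (minimalPrimes S).encard = Brnch.numGeomBranches A := by
  obtain ⟨e⟩ := Henselization.exists_algEquiv_of_isStrictHenselization A S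
  rw [← ENat.card_coe_set_eq, HensBranch.card_minimalPrimes_of_equiv e,
    HensBranch.card_minimalPrimes_strictHenselization A]

theorem encard_minimalPrimes_henselization (A S : Type u) [CommRing A] [IsLocalRing A] [CommRing S]
    [IsLocalRing S] [Algebra A S] [IsLocalHom (algebraMap A S)] [Hensel.IsHenselization A S] :
    (minimalPrimes S).encard = Brnch.numBranches A := by
  obtain ⟨e⟩ := Henselization.exists_algEquiv_of_isHenselization A S
  rw [← ENat.card_coe_set_eq, HensBranch.card_minimalPrimes_of_equiv e,
    HensBranch.card_minimalPrimes_henselization A]

variable {R S : Type u} [CommRing R] [CommRing S] [Algebra R S] [Algebra.Smooth R S]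
  (q : Ideal S) [q.IsPrime] (p : Ideal R) [p.IsPrime] [q.LiesOver p]

theorem numGeomBranches_smooth :
    Brnch.numGeomBranches (Localization.AtPrime q) = Brnch.numGeomBranches (Localization.AtPrime p) := by
  letI : Algebra (Localization.AtPrime p) (Localization.AtPrime q) :=
    (Localization.localRingHom p q (algebraMap R S) (q.over_def p)).toAlgebra
  haveI : IsScalarTower R (Localization.AtPrime p) (Localization.AtPrime q) :=
    IsScalarTower.of_algebraMap_eq fun r => by
      rw [RingHom.algebraMap_toAlgebra, Localization.localRingHom_to_map,
        ← IsScalarTower.algebraMap_apply]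
  haveI : IsLocalHom (algebraMap (Localization.AtPrime p) (Localization.AtPrime q)) :=
    Localization.isLocalHom_localRingHom p q (algebraMap R S) (q.over_def p)
  haveI : Module.Flat (Localization.AtPrime p) (Localization.AtPrime q) :=
    (Module.flat_iff_of_isLocalization (Localization.AtPrime p) p.primeCompl _).mpr inferInstance
  exact numGeomBranches_eq_of_flat _ _ fun P _ _ =>
    isNormalRing_smooth_localization R S _ _ p.primeCompl q.primeCompl P

theorem numBranches_smooth (hpi : @IsPurelyInseparable p.ResidueField q.ResidueField _ _
      (Ideal.ResidueField.mapₐ p q (Algebra.ofId R S) (q.over_def p)).toRingHom.toAlgebra) :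
    Brnch.numBranches (Localization.AtPrime q) = Brnch.numBranches (Localization.AtPrime p) := by
  letI : Algebra (Localization.AtPrime p) (Localization.AtPrime q) :=
    (Localization.localRingHom p q (algebraMap R S) (q.over_def p)).toAlgebra
  haveI : IsScalarTower R (Localization.AtPrime p) (Localization.AtPrime q) :=
    IsScalarTower.of_algebraMap_eq fun r => by
      rw [RingHom.algebraMap_toAlgebra, Localization.localRingHom_to_map,
        ← IsScalarTower.algebraMap_apply]
  haveI : IsLocalHom (algebraMap (Localization.AtPrime p) (Localization.AtPrime q)) :=
    Localization.isLocalHom_localRingHom p q (algebraMap R S) (q.over_def p)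
  haveI : Module.Flat (Localization.AtPrime p) (Localization.AtPrime q) :=
    (Module.flat_iff_of_isLocalization (Localization.AtPrime p) p.primeCompl _).mpr inferInstance
  let C := ringExpChar q.ResidueField
  haveI : ExpChar q.ResidueField C := ringExpChar.expChar _
  letI : Algebra p.ResidueField q.ResidueField :=
    (Ideal.ResidueField.mapₐ p q (Algebra.ofId R S) (q.over_def p)).toRingHom.toAlgebra
  haveI : IsPurelyInseparable p.ResidueField q.ResidueField := hpi
  haveI : ExpChar p.ResidueField C :=
    (algebraMap p.ResidueField q.ResidueField).expChar (RingHom.injective _) _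
  refine numBranches_eq_of_flat _ _ C (fun b => ?_) fun P _ _ =>
    isNormalRing_smooth_localization R S _ _ p.primeCompl q.primeCompl P
  obtain ⟨n, r, hr⟩ := IsPurelyInseparable.pow_mem p.ResidueField C (residue (Localization.AtPrime q) b)
  obtain ⟨a, rfl⟩ := residue_surjective (R := Localization.AtPrime p) r
  refine ⟨n, a, ?_⟩
  rw [← residue_eq_zero_iff, map_sub, map_pow, sub_eq_zero, ← hr]
  rfl

end Groth.Agent.BranchInv
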