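import Groth.Agent.BranchInv.Hens
import Groth.Agent.EtaleSplit.Radicial
import Groth.Agent.FibreMapConstr.Inj

/-!
# The geometrically unibranch locus of a ring with finite normalisation
-/

set_option autoImplicit false
set_option linter.style.haveILetI false

universe u

open IsLocalRing TensorProduct

namespace Groth.Agent.BranchInv

variable {A : Type u} [CommRing A]

/-- Points of the normalisation of `A` are points of the components. -/
theorem nonempty_sigma_pts_equiv (hfin : (minimalPrimes A).Finite) {C : Type u} [Field C] (j : A →+* C) :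
    Nonempty ((Σ P : minimalPrimes A, Pts j P.1) ≃
      {τ : CAlg2.normRed A →+* C // τ.comp (algebraMap A (CAlg2.normRed A)) = j}) := by
  classical
  haveI : Finite (minimalPrimes A) := hfin.to_subtype
  haveI : ∀ P : minimalPrimes A, P.1.IsPrime := fun P => P.2.1.1
  haveI := HensBranch.normRed_isIntegral_self A
  obtain ⟨π, hs⟩ := HensBranch.exists_isNormSplit A hfin
  let G : (Σ P : minimalPrimes A, Pts j P.1) → {τ : CAlg2.normRed A →+* C //
      τ.comp (algebraMap A (CAlg2.normRed A)) = j} := fun x =>
    ⟨x.2.1.comp (π x.1).toRingHom, RingHom.ext fun a =>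
      (congrArg x.2.1 ((π x.1).commutes a)).trans (RingHom.congr_fun x.2.2 a)⟩
  refine ⟨Equiv.ofBijective G ⟨fun x y hxy => ?_, fun τ => ?_⟩⟩
  · obtain ⟨P, α⟩ := x
    obtain ⟨P', β⟩ := y
    have h : α.1.comp (π P).toRingHom = β.1.comp (π P').toRingHom := congrArg Subtype.val hxy
    haveI : (RingHom.ker (α.1.comp (π P).toRingHom)).IsPrime := RingHom.ker_isPrime _
    have h1 : RingHom.ker (π P) ≤ RingHom.ker (α.1.comp (π P).toRingHom) := fun z hz => by
      show α.1 (π P z) = 0
      rw [RingHom.mem_ker.mp hz, map_zero]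
    have h2 : RingHom.ker (π P') ≤ RingHom.ker (α.1.comp (π P).toRingHom) := fun z hz => by
      rw [h]
      show β.1 (π P' z) = 0
      rw [RingHom.mem_ker.mp hz, map_zero]
    obtain rfl : P = P' := hs.ker_unique _ h1 h2
    exact congrArg _ (Subtype.ext (RingHom.ext fun z => by
      obtain ⟨w, rfl⟩ := hs.surj P z
      exact RingHom.congr_fun h w))
  · haveI : (RingHom.ker τ.1).IsPrime := RingHom.ker_isPrime _
    obtain ⟨P, hP⟩ := hs.exists_ker_le (RingHom.ker τ.1)
    let α : CAlg2.normRed (A ⧸ P.1) →+* C :=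
      (π P).toRingHom.liftOfSurjective (hs.surj P) ⟨τ.1, hP⟩
    have hα : ∀ z, α (π P z) = τ.1 z := fun z =>
      (π P).toRingHom.liftOfRightInverse_comp_apply _ _ _ z
    refine ⟨⟨P, α, RingHom.ext fun a => ?_⟩, Subtype.ext (RingHom.ext hα)⟩
    show α (algebraMap A _ a) = j a
    rw [← (π P).commutes, hα]
    exact RingHom.congr_fun τ.2 a

theorem finite_normRed [IsNoetherianRing A] (h : Module.Finite (CAlg2.red A) (CAlg2.normRed A)) :
    Module.Finite A (CAlg2.normRed A) := by
  haveI := h
  haveI : Module.Finite A (CAlg2.red A) :=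
    Module.Finite.of_surjective (Algebra.linearMap A (CAlg2.red A)) Ideal.Quotient.mk_surjective
  exact Module.Finite.trans (CAlg2.red A) _

/-- Geometric branches at a prime are the geometric points of the normalisation over it. -/
theorem numGeomBranches_atPrime_eq (hfin : (minimalPrimes A).Finite) (p : Ideal A) [p.IsPrime] :
    Brnch.numGeomBranches (Localization.AtPrime p) =
      ENat.card (CAlg2.normRed A →ₐ[A] AlgebraicClosure p.ResidueField) := by
  classical
  let R := Localization.AtPrime p
  let C := AlgebraicClosure p.ResidueField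
  let j : R →+* C := Brnch.toClosure R
  have hj : RingHom.ker j = maximalIdeal R := by
    show RingHom.ker ((algebraMap (ResidueField R) C).comp (residue R)) = _
    rw [RingHom.ker_comp_of_injective _ (algebraMap (ResidueField R) C).injective]
    exact Ideal.mk_ker
  haveI : Module.Flat A R := IsLocalization.flat R p.primeCompl
  have hjA : j.comp (algebraMap A R) = algebraMap A C :=
    RingHom.ext fun a => (IsScalarTower.algebraMap_apply A p.ResidueField C a).symm
  rw [numGeomBranches_eq_card j hj]
  have e1 : (Σ Q : minimalPrimes R, Pts j Q.1) ≃ Σ P : minimalPrimes A, Σ Q : Over' R P.1, Pts j Q.1.1 :=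
    { toFun := fun x => ⟨⟨_, HensBranch.comap_minimal_of_flat (S := A) x.1.2⟩, ⟨x.1, rfl⟩, x.2⟩
      invFun := fun x => ⟨x.2.1.1, x.2.2⟩
      left_inv := fun x => rfl
      right_inv := by
        rintro ⟨⟨P, hP⟩, ⟨Q, hQ⟩, y⟩
        cases hQ
        rfl }
  have hN : ∀ (P : Ideal A) [P.IsPrime], EGA4.IsNormalRing (R ⊗[A] CAlg2.normRed (A ⧸ P)) := fun P _ =>
    isNormalRing_localization_tensor A R (CAlg2.normRed (A ⧸ P)) p.primeCompl
      (NormalTensor.isNormalRing_of_ringEquiv
        (Algebra.TensorProduct.lid A (CAlg2.normRed (A ⧸ P))).symm.toRingEquiv (isNormalRing_normRed P))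
  have e2 : (Σ P : minimalPrimes A, Σ Q : Over' R P.1, Pts j Q.1.1) ≃
      Σ P : minimalPrimes A, Pts (algebraMap A C) P.1 := Equiv.sigmaCongrRight fun P =>
    haveI := P.2.1.1
    hjA ▸ Equiv.ofBijective _ (res_bijective (p := P.1) j P.2 (hN P.1))
  obtain ⟨e3⟩ := nonempty_sigma_pts_equiv hfin (algebraMap A C)
  let e4 : {τ : CAlg2.normRed A →+* C // τ.comp (algebraMap A (CAlg2.normRed A)) = algebraMap A C} ≃
      (CAlg2.normRed A →ₐ[A] C) :=
    { toFun := fun τ => ⟨τ.1, fun a => RingHom.congr_fun τ.2 a⟩
      invFun := fun σ => ⟨σ.toRingHom, σ.comp_algebraMap⟩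
      left_inv := fun τ => rfl
      right_inv := fun σ => rfl }
  exact ENat.card_congr (((e1.trans e2).trans e3).trans e4)

theorem isGeomUnibranch_atPrime_iff [IsNoetherianRing A] (h : Module.Finite (CAlg2.red A) (CAlg2.normRed A))
    (p : Ideal A) [p.IsPrime] :
    CAlg2.IsGeomUnibranch (Localization.AtPrime p) ↔
      Subsingleton (CAlg2.normRed A →ₐ[A] AlgebraicClosure p.ResidueField) := by
  haveI := finite_normRed h
  rw [← BranchLib.numGeomBranches_eq_one_iff,
    numGeomBranches_atPrime_eq (minimalPrimes.finite_of_isNoetherianRing A) p, BranchLib.enat_card_eq_one]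
  refine ⟨fun h => h.1, fun hs => ⟨hs, ?_⟩⟩
  haveI := (minimalPrimes.finite_of_isNoetherianRing A).to_subtype
  haveI := HensBranch.normRed_isIntegral_self A
  haveI : ∀ P : minimalPrimes A, P.1.IsPrime := fun P => P.2.1.1
  have hker : RingHom.ker (algebraMap A (CAlg2.normRed A)) ≤ p := by
    obtain ⟨π, hsp⟩ := HensBranch.exists_isNormSplit A (minimalPrimes.finite_of_isNoetherianRing A)
    exact hsp.ker_le_nilradical.trans (nilradical_le_prime p)
  obtain ⟨q, -, hq, hqp⟩ := Ideal.exists_ideal_over_prime_of_isIntegral (S := CAlg2.normRed A) p ⊥ hker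
  haveI := hq
  exact ⟨(EtaleSplit.exists_hom_ker p q hqp).choose⟩

open CategoryTheory CategoryTheory.Limits AlgebraicGeometry

theorem eq_desc_comp {K : Type u} [Field K] {S : Scheme.{u}} (φ : Spec (CommRingCat.of K) ⟶ S) {s : S}
    (hs : φ (closedPoint K) = s) : ∃ c, φ = c ≫ S.fromSpecResidueField s := by
  subst hs
  exact ⟨_, (Scheme.descResidueField_stalkClosedPointTo_fromSpecResidueField K S φ).symm⟩

/-- Universal injectivity of a fibre, on field-valued points. -/
theorem universallyInjective_fib_id_iff {X S : Scheme.{u}} (f : X ⟶ S) (y : S) :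
    UniversallyInjective (FibreMapConstr.fib f (𝟙 S) y) ↔
      ∀ (K : Type u) [Field K] (a b : Spec (CommRingCat.of K) ⟶ X), a ≫ f = b ≫ f →
        (a ≫ f) (closedPoint K) = y → a = b := by
  rw [(tfae_universallyInjective (FibreMapConstr.fib f (𝟙 S) y)).out 0 1 rfl rfl]
  constructor
  · intro h K _ a b hab hy
    obtain ⟨c, hc⟩ := eq_desc_comp (a ≫ f) hy
    have ha : a ≫ f ≫ 𝟙 S = c ≫ S.fromSpecResidueField y := by rw [Category.comp_id, hc]
    have hb : b ≫ f ≫ 𝟙 S = c ≫ S.fromSpecResidueField y := by rw [Category.comp_id, ← hab, hc]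
    have h1 := @h K _ (pullback.lift a c ha) (pullback.lift b c hb) (by
      apply pullback.hom_ext
      · simp only [FibreMapConstr.fib, Category.assoc, pullback.lift_fst, pullback.lift_fst_assoc, hab]
      · simp only [FibreMapConstr.fib, Category.assoc, pullback.lift_snd])
    have h2 := congrArg (fun m => m ≫ pullback.fst (f ≫ 𝟙 S) (S.fromSpecResidueField y)) h1
    simpa only [pullback.lift_fst] using h2
  · intro h K _ a b hab
    apply (cancel_mono (pullback.fst (f ≫ 𝟙 S) (S.fromSpecResidueField y))).1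
    have h1 : (a ≫ pullback.fst (f ≫ 𝟙 S) (S.fromSpecResidueField y)) ≫ f =
        (b ≫ pullback.fst (f ≫ 𝟙 S) (S.fromSpecResidueField y)) ≫ f := by
      have := congrArg (fun m => m ≫ pullback.fst (𝟙 S) (S.fromSpecResidueField y)) hab
      simpa only [FibreMapConstr.fib, Category.assoc, pullback.lift_fst] using this
    refine h K _ _ h1 ?_
    have e : pullback.fst (f ≫ 𝟙 S) (S.fromSpecResidueField y) ≫ f =
        pullback.snd (f ≫ 𝟙 S) (S.fromSpecResidueField y) ≫ S.fromSpecResidueField y := by
      simpa only [Category.comp_id] using pullback.condition (f := f ≫ 𝟙 S) (g := S.fromSpecResidueField y)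
    rw [Category.assoc, e, ← Category.assoc, Scheme.Hom.comp_apply]
    exact Set.mem_singleton_iff.1 ((Scheme.range_fromSpecResidueField y).le ⟨_, rfl⟩)

theorem comap_maximalIdeal_field {R K : Type u} [CommRing R] [Field K] (ψ : R →+* K) (x : R) :
    x ∈ (maximalIdeal K).comap ψ ↔ ψ x = 0 := by
  rw [Ideal.mem_comap, maximalIdeal_eq_bot, Ideal.mem_bot]

theorem universallyInjective_fib_iff_subsingleton (B : Type u) [CommRing B] [Algebra A B] [Module.Finite A B]
    (p : PrimeSpectrum A) :
    UniversallyInjective (FibreMapConstr.fib (Spec.map (CommRingCat.ofHom (algebraMap A B)))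
      (𝟙 (Spec (CommRingCat.of A))) p) ↔
      Subsingleton (B →ₐ[A] AlgebraicClosure p.asIdeal.ResidueField) := by
  refine (universallyInjective_fib_id_iff _ _).trans ⟨fun h => ⟨fun σ τ => ?_⟩, fun hs K _ a b hab hy => ?_⟩
  · have hw : ∀ ρ : B →ₐ[A] AlgebraicClosure p.asIdeal.ResidueField,
        Spec.map (CommRingCat.ofHom ρ.toRingHom) ≫ Spec.map (CommRingCat.ofHom (algebraMap A B)) =
        Spec.map (CommRingCat.ofHom (algebraMap A (AlgebraicClosure p.asIdeal.ResidueField))) := fun ρ => by
      rw [← Spec.map_comp, ← CommRingCat.ofHom_comp]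
      exact congrArg Spec.map (congrArg CommRingCat.ofHom ρ.comp_algebraMap)
    refine AlgHom.coe_ringHom_injective (congrArg CommRingCat.Hom.hom (Spec.map_injective
      (h _ _ _ ((hw σ).trans (hw τ).symm) ?_)))
    rw [hw σ]
    refine PrimeSpectrum.ext (Ideal.ext fun x => ?_)
    refine (comap_maximalIdeal_field (algebraMap A (AlgebraicClosure p.asIdeal.ResidueField)) x).trans ?_
    rw [IsScalarTower.algebraMap_apply A p.asIdeal.ResidueField (AlgebraicClosure p.asIdeal.ResidueField),
        map_eq_zero_iff _ (RingHom.injective _), Ideal.algebraMap_residueField_eq_zero]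
  · obtain ⟨I, s, hI, hsp, hrad⟩ := EtaleSplit.exists_radicial_nbhd p.asIdeal hs
    obtain ⟨σ, rfl⟩ := Spec.map_surjective a
    obtain ⟨τ, rfl⟩ := Spec.map_surjective b
    rw [← Spec.map_comp, ← Spec.map_comp] at hab
    have hψ : σ.hom.comp (algebraMap A B) = τ.hom.comp (algebraMap A B) :=
      congrArg CommRingCat.Hom.hom (Spec.map_injective hab)
    rw [← Spec.map_comp] at hy
    have hker : ∀ x : A, σ.hom (algebraMap A B x) = 0 ↔ x ∈ p.asIdeal := fun x => by
      rw [← congrArg PrimeSpectrum.asIdeal hy]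
      exact (comap_maximalIdeal_field (σ.hom.comp (algebraMap A B)) x).symm
    exact congrArg Spec.map (CommRingCat.hom_ext (hrad K _ (fun x hx => (hker x).2 (hI x hx))
      (fun h => hsp ((hker s).1 h)) σ.hom τ.hom rfl hψ.symm))

theorem setOf_geomUnibranch_eq [IsNoetherianRing A] (h : Module.Finite (CAlg2.red A) (CAlg2.normRed A)) :
    haveI := finite_normRed h
    {p : PrimeSpectrum A | CAlg2.IsGeomUnibranch (Localization.AtPrime p.asIdeal)} =
      {p : PrimeSpectrum A | UniversallyInjective (FibreMapConstr.fib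
        (Spec.map (CommRingCat.ofHom (algebraMap A (CAlg2.normRed A)))) (𝟙 (Spec (CommRingCat.of A))) p)} := by
  haveI := finite_normRed h
  exact Set.ext fun p => (isGeomUnibranch_atPrime_iff h p.asIdeal).trans
    (universallyInjective_fib_iff_subsingleton (CAlg2.normRed A) p).symm

open Topology in
theorem isConstructible_geomUnibranch [IsNoetherianRing A]
    (h : Module.Finite (CAlg2.red A) (CAlg2.normRed A)) :
    IsConstructible {p : PrimeSpectrum A | CAlg2.IsGeomUnibranch (Localization.AtPrime p.asIdeal)} := by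
  haveI := finite_normRed h
  haveI : Algebra.FinitePresentation A (CAlg2.normRed A) :=
    Algebra.FinitePresentation.of_finiteType.mp inferInstance
  let φ := Spec.map (CommRingCat.ofHom (algebraMap A (CAlg2.normRed A)))
  haveI : LocallyOfFinitePresentation φ :=
    HasRingHomProperty.Spec_iff.2 (RingHom.finitePresentation_algebraMap.2 inferInstance)
  haveI : LocallyOfFinitePresentation (φ ≫ 𝟙 _) := by rw [Category.comp_id]; infer_instance
  haveI : QuasiCompact (φ ≫ 𝟙 _) := by rw [Category.comp_id]; infer_instance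
  haveI : QuasiSeparated (φ ≫ 𝟙 _) := by rw [Category.comp_id]; infer_instance
  rw [setOf_geomUnibranch_eq h]
  exact (FibreMapConstr.isLocallyConstructible_universallyInjective φ (𝟙 _)).isConstructible

end Groth.Agent.BranchInv
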