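import Groth.Agent.BranchInv.Pts
import Groth.Agent.HensBranch.NormTensor

/-!
# Branches along flat local maps with normal base change of the normalisations
-/

set_option autoImplicit false
set_option linter.style.haveILetI false

universe u

open IsLocalRing TensorProduct

namespace Groth.Agent.BranchInv

noncomputable section

variable {A B : Type u} [CommRing A] [CommRing B] [Algebra A B]

/-- Minimal primes of `B` over `p`. -/
abbrev Over' (B : Type u) [CommRing B] [Algebra A B] (p : Ideal A) : Type u :=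
  {Q : minimalPrimes B // Q.1.comap (algebraMap A B) = p}

variable {p : Ideal A} [p.IsPrime]

instance (Q : Over' B p) : Q.1.1.IsPrime := Q.1.2.1.1

theorem exists_chi (Q : Over' B p) :
    Nonempty (CAlg2.normRed (A ⧸ p) →ₐ[A] CAlg2.normRed (B ⧸ Q.1.1)) := by
  haveI := HensBranch.normRed_isIntegral p
  haveI := HensBranch.normRed_isIntegrallyClosed Q.1.1
  refine exists_algHom_of_isFrac (HensBranch.normRed_frac p) ?_
  rw [HensBranch.ker_algebraMap_normRed]
  refine Q.2.symm.trans ?_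
  conv_lhs => rw [← HensBranch.ker_algebraMap_normRed Q.1.1, RingHom.comap_ker]
  rfl

/-- The map of normalisations. -/
def chi (Q : Over' B p) : CAlg2.normRed (A ⧸ p) →ₐ[A] CAlg2.normRed (B ⧸ Q.1.1) := (exists_chi Q).some

instance (Q : Over' B p) : IsScalarTower A B (CAlg2.normRed (B ⧸ Q.1.1)) :=
  IsScalarTower.of_algebraMap_eq fun _ => rfl

/-- The map from the base change of the normalisation. -/
def psi (Q : Over' B p) : B ⊗[A] CAlg2.normRed (A ⧸ p) →ₐ[B] CAlg2.normRed (B ⧸ Q.1.1) :=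
  Algebra.TensorProduct.lift (Algebra.ofId B _) (chi Q) fun _ _ => Commute.all _ _

lemma psi_tmul (Q : Over' B p) (b : B) (c : CAlg2.normRed (A ⧸ p)) :
    psi Q (b ⊗ₜ[A] c) = algebraMap B _ b * chi Q c := Algebra.TensorProduct.lift_tmul _ _ _ _ _

lemma frac_tensor (x : B ⊗[A] CAlg2.normRed (A ⧸ p)) :
    ∃ a : A, a ∉ p ∧ ∃ b : B, algebraMap A (B ⊗[A] CAlg2.normRed (A ⧸ p)) a * x =
      algebraMap B (B ⊗[A] CAlg2.normRed (A ⧸ p)) b := by
  induction x using TensorProduct.induction_on with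
  | zero => exact ⟨1, fun h => (Ideal.ne_top_iff_one p).mp ‹p.IsPrime›.ne_top h, 0, by simp⟩
  | tmul b c =>
    obtain ⟨a, a', ha, hab⟩ := HensBranch.normRed_frac p c
    refine ⟨a, fun h => ha ?_, algebraMap A B a' * b, ?_⟩
    · rw [← RingHom.mem_ker, HensBranch.ker_algebraMap_normRed]; exact h
    · rw [IsScalarTower.algebraMap_apply A B (B ⊗[A] CAlg2.normRed (A ⧸ p)),
        Algebra.TensorProduct.algebraMap_apply, Algebra.TensorProduct.algebraMap_apply,
        Algebra.TensorProduct.tmul_mul_tmul, one_mul, Algebra.algebraMap_self, RingHom.id_apply,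
        RingHom.id_apply, ← Algebra.smul_def, TensorProduct.smul_tmul, Algebra.smul_def, hab,
        Algebra.algebraMap_eq_smul_one, ← TensorProduct.smul_tmul, Algebra.smul_def, mul_comm]
  | add x y hx hy =>
    obtain ⟨a, ha, b, hb⟩ := hx
    obtain ⟨a', ha', b', hb'⟩ := hy
    refine ⟨a * a', fun h => ((‹p.IsPrime›).mem_or_mem h).elim ha ha',
      algebraMap A B a' * b + algebraMap A B a * b', ?_⟩
    rw [map_mul, map_add, map_mul, map_mul, ← hb, ← hb', ← IsScalarTower.algebraMap_apply,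
      ← IsScalarTower.algebraMap_apply]
    ring

lemma le_of_comap_le {P P' : Ideal (B ⊗[A] CAlg2.normRed (A ⧸ p))} [P'.IsPrime]
    (hP' : P'.comap (algebraMap A (B ⊗[A] CAlg2.normRed (A ⧸ p))) = p)
    (h : P.comap (algebraMap B (B ⊗[A] CAlg2.normRed (A ⧸ p))) ≤
      P'.comap (algebraMap B (B ⊗[A] CAlg2.normRed (A ⧸ p)))) : P ≤ P' := by
  intro x hx
  obtain ⟨a, ha, b, hb⟩ := frac_tensor x
  have h1 : b ∈ P.comap (algebraMap B (B ⊗[A] CAlg2.normRed (A ⧸ p))) := by
    show _ ∈ P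
    rw [← hb]
    exact P.mul_mem_left _ hx
  have h2 : algebraMap A (B ⊗[A] CAlg2.normRed (A ⧸ p)) a * x ∈ P' := hb ▸ h h1
  exact ((‹P'.IsPrime›).mem_or_mem h2).resolve_left fun h' => ha (hP'.le h')

lemma comap_ker_psi (Q : Over' B p) :
    (RingHom.ker (psi Q)).comap (algebraMap B (B ⊗[A] CAlg2.normRed (A ⧸ p))) = Q.1.1 := by
  ext b
  rw [Ideal.mem_comap, RingHom.mem_ker, AlgHom.commutes, ← RingHom.mem_ker,
    HensBranch.ker_algebraMap_normRed]

lemma comap_ker_psi' (Q : Over' B p) :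
    (RingHom.ker (psi Q)).comap (algebraMap A (B ⊗[A] CAlg2.normRed (A ⧸ p))) = p := by
  rw [IsScalarTower.algebraMap_eq A B (B ⊗[A] CAlg2.normRed (A ⧸ p)), ← Ideal.comap_comap, comap_ker_psi]
  exact Q.2

lemma ker_psi_minimal (Q : Over' B p) :
    RingHom.ker (psi Q) ∈ minimalPrimes (B ⊗[A] CAlg2.normRed (A ⧸ p)) := by
  refine ⟨⟨RingHom.ker_isPrime _, bot_le⟩, fun P hP hle => ?_⟩
  haveI := hP.1
  have hsub : P.comap (algebraMap B (B ⊗[A] CAlg2.normRed (A ⧸ p))) ≤ Q.1.1 :=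
    (Ideal.comap_mono hle).trans (comap_ker_psi Q).le
  have heq := hsub.antisymm (Q.1.2.2 ⟨Ideal.IsPrime.comap _, bot_le⟩ hsub)
  refine le_of_comap_le ?_ ((comap_ker_psi Q).trans heq.symm).le
  rw [IsScalarTower.algebraMap_eq A B (B ⊗[A] CAlg2.normRed (A ⧸ p)), ← Ideal.comap_comap, heq]
  exact Q.2

variable [Module.Flat A B]

lemma comap_minimal_eq {P : Ideal (B ⊗[A] CAlg2.normRed (A ⧸ p))}
    (hP : P ∈ minimalPrimes (B ⊗[A] CAlg2.normRed (A ⧸ p))) :
    P.comap (algebraMap A (B ⊗[A] CAlg2.normRed (A ⧸ p))) = p := by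
  refine le_antisymm (fun a ha => ?_) fun a ha => ?_
  · by_contra hap
    have h1 : algebraMap A (CAlg2.normRed (A ⧸ p)) a ≠ 0 := fun h0 => hap (by
      rw [← HensBranch.ker_algebraMap_normRed p]; exact RingHom.mem_ker.mpr h0)
    have hinj : Function.Injective
        (LinearMap.lsmul A (CAlg2.normRed (A ⧸ p)) a) := fun x y hxy => by
      simp only [LinearMap.lsmul_apply, Algebra.smul_def] at hxy
      exact mul_left_cancel₀ h1 hxy
    refine Set.disjoint_left.mp (Ideal.disjoint_nonZeroDivisors_of_mem_minimalPrimes hP) ha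
      (mem_nonZeroDivisors_iff_left.mpr fun y hy => ?_)
    refine Module.Flat.lTensor_preserves_injective_linearMap (M := B) _ hinj ?_
    rw [map_zero]
    have hfun : ∀ w : B ⊗[A] CAlg2.normRed (A ⧸ p),
        (LinearMap.lsmul A (CAlg2.normRed (A ⧸ p)) a).lTensor B w = a • w := fun w => by
      induction w using TensorProduct.induction_on with
      | zero => rw [map_zero, smul_zero]
      | tmul u v => rw [LinearMap.lTensor_tmul, LinearMap.lsmul_apply, TensorProduct.tmul_smul]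
      | add u v hu hv => rw [map_add, hu, hv, smul_add]
    rw [hfun, Algebra.smul_def]
    exact hy
  · have : algebraMap A (CAlg2.normRed (A ⧸ p)) a = 0 := by
      rw [← RingHom.mem_ker, HensBranch.ker_algebraMap_normRed]; exact ha
    show _ ∈ P
    rw [show algebraMap A (B ⊗[A] CAlg2.normRed (A ⧸ p)) a = 0 by
      rw [← (Algebra.TensorProduct.includeRight :
        CAlg2.normRed (A ⧸ p) →ₐ[A] B ⊗[A] CAlg2.normRed (A ⧸ p)).commutes, this, map_zero]]
    exact P.zero_mem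

lemma exists_ker_psi_eq {P : Ideal (B ⊗[A] CAlg2.normRed (A ⧸ p))}
    (hp : p ∈ minimalPrimes A) (hP : P ∈ minimalPrimes (B ⊗[A] CAlg2.normRed (A ⧸ p))) :
    ∃ Q : Over' B p, RingHom.ker (psi Q) = P := by
  haveI := hP.1.1
  obtain ⟨Q1, hQ1, hle⟩ := Ideal.exists_minimalPrimes_le
    (bot_le : (⊥ : Ideal B) ≤ P.comap (algebraMap B (B ⊗[A] CAlg2.normRed (A ⧸ p))))
  haveI := hQ1.1.1
  have hsub : Q1.comap (algebraMap A B) ≤ p := by
    refine (Ideal.comap_mono hle).trans (le_of_eq ?_)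
    rw [Ideal.comap_comap, ← IsScalarTower.algebraMap_eq, comap_minimal_eq hP]
  let Q : Over' B p := ⟨⟨Q1, hQ1⟩, hsub.antisymm (hp.2 ⟨Ideal.IsPrime.comap _, bot_le⟩ hsub)⟩
  have h1 : RingHom.ker (psi Q) ≤ P :=
    le_of_comap_le (comap_minimal_eq hP) ((comap_ker_psi Q).le.trans hle)
  exact ⟨Q, h1.antisymm (hP.2 (ker_psi_minimal Q).1 h1)⟩

lemma psi_surjective (hN : EGA4.IsNormalRing (B ⊗[A] CAlg2.normRed (A ⧸ p))) (Q : Over' B p) :
    Function.Surjective (psi Q) := by
  let D := B ⊗[A] CAlg2.normRed (A ⧸ p)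
  let K : Ideal D := RingHom.ker (psi Q)
  haveI : K.IsPrime := RingHom.ker_isPrime _
  haveI := isIntegrallyClosed_quotient_minimal hN (ker_psi_minimal Q)
  haveI := HensBranch.normRed_isIntegral Q.1.1
  have hker : RingHom.ker (algebraMap B (CAlg2.normRed (B ⧸ Q.1.1))) =
      RingHom.ker (algebraMap B (D ⧸ K)) := by
    rw [HensBranch.ker_algebraMap_normRed]
    refine (comap_ker_psi Q).symm.trans ?_
    rw [IsScalarTower.algebraMap_eq B D (D ⧸ K), ← RingHom.comap_ker]
    exact congrArg _ Ideal.mk_ker.symm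
  obtain ⟨g⟩ := exists_algHom_of_isFrac (N' := D ⧸ K) (HensBranch.normRed_frac Q.1.1) hker
  let ψ : D ⧸ K →ₐ[B] CAlg2.normRed (B ⧸ Q.1.1) := Ideal.Quotient.liftₐ K (psi Q) fun a ha => ha
  have hid := algHom_ext_of_isFrac (HensBranch.normRed_frac Q.1.1) le_rfl (ψ.comp g) (AlgHom.id B _)
  intro y
  obtain ⟨d, hd⟩ := Ideal.Quotient.mk_surjective (g y)
  have h := AlgHom.congr_fun hid y
  rw [AlgHom.comp_apply, ← hd] at h
  exact ⟨d, h⟩

variable {C : Type u} [Field C] (j : B →+* C)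

/-- Restriction of points. -/
def res (x : Σ Q : Over' B p, Pts j Q.1.1) : Pts (j.comp (algebraMap A B)) p :=
  ⟨x.2.1.comp (chi x.1).toRingHom, RingHom.ext fun a => by
    show x.2.1 (chi x.1 (algebraMap A _ a)) = j (algebraMap A B a)
    rw [AlgHom.commutes, IsScalarTower.algebraMap_apply A B]
    exact RingHom.congr_fun x.2.2 (algebraMap A B a)⟩

lemma pts_psi_tmul (x : Σ Q : Over' B p, Pts j Q.1.1) (b : B) (c : CAlg2.normRed (A ⧸ p)) :
    x.2.1 (psi x.1 (b ⊗ₜ[A] c)) = j b * (res j x).1 c := by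
  rw [psi_tmul, map_mul]
  congr 1
  exact RingHom.congr_fun x.2.2 b

lemma ker_res (x : Σ Q : Over' B p, Pts j Q.1.1) :
    RingHom.ker (res j x).1 = (RingHom.ker x.2.1).comap (chi x.1).toRingHom :=
  (RingHom.comap_ker _ _).symm

theorem res_bijective (hp : p ∈ minimalPrimes A)
    (hN : EGA4.IsNormalRing (B ⊗[A] CAlg2.normRed (A ⧸ p))) :
    Function.Bijective (res (p := p) j) := by
  let D := B ⊗[A] CAlg2.normRed (A ⧸ p)
  constructor
  · rintro ⟨Q₁, υ₁⟩ ⟨Q₂, υ₂⟩ h
    have hσ : ∀ z : D, υ₁.1 (psi Q₁ z) = υ₂.1 (psi Q₂ z) := fun z => by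
      induction z using TensorProduct.induction_on with
      | zero => simp
      | tmul b c =>
        rw [pts_psi_tmul j ⟨Q₁, υ₁⟩, pts_psi_tmul j ⟨Q₂, υ₂⟩, h]
      | add u v hu hv => simp only [map_add, hu, hv]
    let M : Ideal D := RingHom.ker (υ₁.1.comp (psi Q₁).toRingHom)
    haveI : M.IsPrime := RingHom.ker_isPrime _
    have h1 : RingHom.ker (psi Q₁) ≤ M := fun z hz => by
      show υ₁.1 (psi Q₁ z) = 0
      rw [RingHom.mem_ker.mp hz, map_zero]
    have h2 : RingHom.ker (psi Q₂) ≤ M := fun z hz => by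
      show υ₁.1 (psi Q₁ z) = 0
      rw [hσ z, RingHom.mem_ker.mp hz, map_zero]
    have hK := minimal_unique_of_isNormalRing hN M (ker_psi_minimal Q₁) (ker_psi_minimal Q₂) h1 h2
    obtain rfl : Q₁ = Q₂ := Subtype.ext (Subtype.ext (by rw [← comap_ker_psi Q₁, hK, comap_ker_psi Q₂]))
    exact congrArg _ (Subtype.ext (RingHom.ext fun y => by
      obtain ⟨z, rfl⟩ := psi_surjective hN Q₁ y
      exact hσ z))
  · intro τ
    letI : Algebra A C := (j.comp (algebraMap A B)).toAlgebra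
    let jA : B →ₐ[A] C := ⟨j, fun _ => rfl⟩
    let τA : CAlg2.normRed (A ⧸ p) →ₐ[A] C := ⟨τ.1, fun a => RingHom.congr_fun τ.2 a⟩
    let σ : D →ₐ[A] C := Algebra.TensorProduct.lift jA τA fun _ _ => Commute.all _ _
    haveI : (RingHom.ker σ).IsPrime := RingHom.ker_isPrime _
    obtain ⟨P, hP, hle⟩ := Ideal.exists_minimalPrimes_le (bot_le : (⊥ : Ideal D) ≤ RingHom.ker σ)
    obtain ⟨Q, hQ⟩ := exists_ker_psi_eq hp hP
    let υ : CAlg2.normRed (B ⧸ Q.1.1) →+* C :=
      (psi Q).toRingHom.liftOfSurjective (psi_surjective hN Q) ⟨σ.toRingHom, fun z hz => hle (hQ ▸ hz)⟩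
    have hυ : ∀ z, υ (psi Q z) = σ z := fun z => (psi Q).toRingHom.liftOfRightInverse_comp_apply _ _ _ z
    have hυB : υ.comp (algebraMap B (CAlg2.normRed (B ⧸ Q.1.1))) = j := RingHom.ext fun b => by
      show υ (algebraMap B _ b) = j b
      rw [← (psi Q).commutes, hυ]
      show σ (algebraMap B B b ⊗ₜ[A] 1) = j b
      rw [Algebra.TensorProduct.lift_tmul, map_one, mul_one]
      rfl
    refine ⟨⟨Q, υ, hυB⟩, Subtype.ext (RingHom.ext fun c => ?_)⟩
    show υ (chi Q c) = τ.1 c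
    have : chi Q c = psi Q (1 ⊗ₜ[A] c) := by rw [psi_tmul, map_one, one_mul]
    rw [this, hυ, Algebra.TensorProduct.lift_tmul, map_one, one_mul]
    rfl

end

section count

variable {A B : Type u} [CommRing A] [CommRing B] [IsLocalRing A] [IsLocalRing B] [Algebra A B]
  [IsLocalHom (algebraMap A B)] [Module.Flat A B]

omit [Module.Flat A B] in
lemma ker_comp {C : Type u} [Field C] {j : B →+* C} (hj : RingHom.ker j = maximalIdeal B) :
    RingHom.ker (j.comp (algebraMap A B)) = maximalIdeal A := by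
  rw [← RingHom.comap_ker, hj]
  have h := (local_hom_TFAE (algebraMap A B)).out 0 4
  exact h.mp ‹IsLocalHom (algebraMap A B)›

/-- Sums over the minimal primes of `B`, fibred over those of `A`. -/
noncomputable def fibreEquiv (X : minimalPrimes B → Type u) :
    (Σ Q, X Q) ≃ Σ p : minimalPrimes A, Σ Q : Over' B p.1, X Q.1 :=
  { toFun := fun x => ⟨⟨_, HensBranch.comap_minimal_of_flat (S := A) x.1.2⟩, ⟨x.1, rfl⟩, x.2⟩
    invFun := fun x => ⟨x.2.1.1, x.2.2⟩
    left_inv := fun x => rfl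
    right_inv := by
      rintro ⟨⟨p, hp⟩, ⟨Q, hQ⟩, y⟩
      cases hQ
      rfl }

lemma exists_pow_psi {C : Type u} [Field C] (j : B →+* C) (q : ℕ) [ExpChar C q]
    (hj : RingHom.ker j = maximalIdeal B)
    (hpi : ∀ b : B, ∃ (n : ℕ) (a : A), algebraMap A B a - b ^ q ^ n ∈ maximalIdeal B)
    {p : Ideal A} [p.IsPrime] (z : B ⊗[A] CAlg2.normRed (A ⧸ p)) :
    ∃ (n : ℕ) (c : CAlg2.normRed (A ⧸ p)), ∀ w : Σ Q : Over' B p, Pts j Q.1.1,
      w.2.1 (psi w.1 z) ^ q ^ n = (res j w).1 c := by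
  induction z using TensorProduct.induction_on with
  | zero => exact ⟨0, 0, fun w => by rw [pow_zero, pow_one, map_zero, map_zero, map_zero]⟩
  | tmul b c =>
    obtain ⟨n, a, ha⟩ := hpi b
    refine ⟨n, algebraMap A _ a * c ^ q ^ n, fun w => ?_⟩
    have hba : j b ^ q ^ n = (j.comp (algebraMap A B)) a := by
      rw [← hj, RingHom.mem_ker, map_sub, map_pow, sub_eq_zero] at ha
      exact ha.symm
    rw [pts_psi_tmul, mul_pow, hba, map_mul, map_pow]
    congr 1
    exact (RingHom.congr_fun (res j w).2 a).symm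
  | add u v hu hv =>
    obtain ⟨n, c, hc⟩ := hu
    obtain ⟨m, d, hd⟩ := hv
    refine ⟨n + m, c ^ q ^ m + d ^ q ^ n, fun w => ?_⟩
    rw [map_add, map_add, add_pow_expChar_pow, map_add, map_pow, map_pow, ← hc w, ← hd w, pow_add,
      pow_mul, show q ^ n * q ^ m = q ^ m * q ^ n from mul_comm _ _, pow_mul]

lemma res_ker_inj {C : Type u} [Field C] (j : B →+* C) (q : ℕ) [ExpChar C q]
    (hj : RingHom.ker j = maximalIdeal B)
    (hpi : ∀ b : B, ∃ (n : ℕ) (a : A), algebraMap A B a - b ^ q ^ n ∈ maximalIdeal B)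
    {p : Ideal A} [p.IsPrime] (hN : EGA4.IsNormalRing (B ⊗[A] CAlg2.normRed (A ⧸ p)))
    {x y : Σ Q : Over' B p, Pts j Q.1.1} (hker : RingHom.ker (res j x).1 = RingHom.ker (res j y).1) :
    ∃ _h : x.1 = y.1, HEq (RingHom.ker x.2.1) (RingHom.ker y.2.1) := by
  have heq : ∀ z : B ⊗[A] CAlg2.normRed (A ⧸ p), x.2.1 (psi x.1 z) = 0 ↔ y.2.1 (psi y.1 z) = 0 := fun z => by
    obtain ⟨n, c, hc⟩ := exists_pow_psi j q hj hpi z
    have hq : q ^ n ≠ 0 := pow_ne_zero _ (expChar_pos C q).ne'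
    rw [← pow_eq_zero_iff hq, hc x, ← pow_eq_zero_iff (a := y.2.1 (psi y.1 z)) hq, hc y,
      ← RingHom.mem_ker, hker, RingHom.mem_ker]
  obtain ⟨Q, υ⟩ := x
  obtain ⟨Q', υ'⟩ := y
  let M : Ideal (B ⊗[A] CAlg2.normRed (A ⧸ p)) := RingHom.ker (υ.1.comp (psi Q).toRingHom)
  haveI : M.IsPrime := RingHom.ker_isPrime _
  have h1 : RingHom.ker (psi Q) ≤ M := fun z hz => by
    show υ.1 (psi Q z) = 0
    rw [RingHom.mem_ker.mp hz, map_zero]
  have h2 : RingHom.ker (psi Q') ≤ M := fun z hz => by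
    show υ.1 (psi Q z) = 0
    exact (heq z).mpr (show υ'.1 (psi Q' z) = 0 by rw [RingHom.mem_ker.mp hz, map_zero])
  have hK := minimal_unique_of_isNormalRing hN M (ker_psi_minimal Q) (ker_psi_minimal Q') h1 h2
  obtain rfl : Q = Q' := Subtype.ext (Subtype.ext (by rw [← comap_ker_psi Q, hK, comap_ker_psi Q']))
  refine ⟨rfl, heq_of_eq ?_⟩
  ext w
  obtain ⟨z, rfl⟩ := psi_surjective hN Q w
  exact heq z

variable (A B) in
/-- Flat local maps along which the normalisations stay normal preserve geometric branches. -/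
theorem numGeomBranches_eq_of_flat
    (hN : ∀ (p : Ideal A) [p.IsPrime], p ∈ minimalPrimes A →
      EGA4.IsNormalRing (B ⊗[A] CAlg2.normRed (A ⧸ p))) :
    Brnch.numGeomBranches B = Brnch.numGeomBranches A := by
  let C := AlgebraicClosure (ResidueField B)
  let j : B →+* C := Brnch.toClosure B
  have hj : RingHom.ker j = maximalIdeal B := by
    show RingHom.ker ((algebraMap (ResidueField B) C).comp (residue B)) = _
    rw [RingHom.ker_comp_of_injective _ (algebraMap (ResidueField B) C).injective]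
    exact Ideal.mk_ker
  rw [numGeomBranches_eq_card j hj, numGeomBranches_eq_card (j.comp (algebraMap A B)) (ker_comp hj),
    ENat.card_congr (fibreEquiv (A := A) fun Q => Pts j Q.1)]
  refine ENat.card_congr (Equiv.sigmaCongrRight fun p => ?_)
  haveI := p.2.1.1
  exact Equiv.ofBijective _ (res_bijective j p.2 (hN p.1 p.2))

variable (A B) in
/-- If moreover the residue extension is purely inseparable, branches are preserved. -/
theorem numBranches_eq_of_flat (q : ℕ) [ExpChar (ResidueField B) q]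
    (hpi : ∀ b : B, ∃ (n : ℕ) (a : A), algebraMap A B a - b ^ q ^ n ∈ maximalIdeal B)
    (hN : ∀ (p : Ideal A) [p.IsPrime], p ∈ minimalPrimes A →
      EGA4.IsNormalRing (B ⊗[A] CAlg2.normRed (A ⧸ p))) :
    Brnch.numBranches B = Brnch.numBranches A := by
  classical
  let C := AlgebraicClosure (ResidueField B)
  haveI : ExpChar C q := expChar_of_injective_ringHom (algebraMap (ResidueField B) C).injective q
  let j : B →+* C := Brnch.toClosure B
  have hj : RingHom.ker j = maximalIdeal B := by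
    show RingHom.ker ((algebraMap (ResidueField B) C).comp (residue B)) = _
    rw [RingHom.ker_comp_of_injective _ (algebraMap (ResidueField B) C).injective]
    exact Ideal.mk_ker
  let jA := j.comp (algebraMap A B)
  have hjA : RingHom.ker jA = maximalIdeal A := ker_comp hj
  rw [numBranches_eq_card, numBranches_eq_card,
    ENat.card_congr (fibreEquiv (A := A) fun Q => MaximalSpectrum (CAlg2.normRed (B ⧸ Q.1)))]
  refine ENat.card_congr (Equiv.sigmaCongrRight fun p => ?_)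
  haveI := p.2.1.1
  let N := CAlg2.normRed (A ⧸ p.1)
  have hex : ∀ x : Σ Q : Over' B p.1, MaximalSpectrum (CAlg2.normRed (B ⧸ Q.1.1)),
      ∃ υ : Pts j x.1.1.1, RingHom.ker υ.1 = x.2.asIdeal := fun x => exists_pts_ker j hj x.1.1.1 x.2
  choose υ hυ using hex
  let G : (Σ Q : Over' B p.1, MaximalSpectrum (CAlg2.normRed (B ⧸ Q.1.1))) → MaximalSpectrum N :=
    fun x => ⟨RingHom.ker (res j ⟨x.1, υ x⟩).1, ker_isMaximal_pts jA hjA _⟩
  refine Equiv.ofBijective G ⟨fun x y hxy => ?_, fun M => ?_⟩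
  · have h := res_ker_inj j q hj hpi (hN p.1 p.2) (x := ⟨x.1, υ x⟩) (y := ⟨y.1, υ y⟩)
      (congrArg MaximalSpectrum.asIdeal hxy)
    obtain ⟨Q, M₁⟩ := x
    obtain ⟨Q', M₂⟩ := y
    obtain ⟨h1, h2⟩ := h
    cases h1
    exact congrArg _ (MaximalSpectrum.ext (by rw [← hυ ⟨Q, M₁⟩, ← hυ ⟨Q, M₂⟩]; exact eq_of_heq h2))
  · obtain ⟨τ, hτ⟩ := exists_pts_ker jA hjA p.1 M
    obtain ⟨⟨Q, ω⟩, rfl⟩ := (res_bijective j p.2 (hN p.1 p.2)).2 τ
    let x : Σ Q : Over' B p.1, MaximalSpectrum (CAlg2.normRed (B ⧸ Q.1.1)) :=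
      ⟨Q, ⟨RingHom.ker ω.1, ker_isMaximal_pts j hj ω⟩⟩
    have h1 : RingHom.ker (υ x).1 = RingHom.ker ω.1 := hυ x
    refine ⟨x, MaximalSpectrum.ext ?_⟩
    show RingHom.ker (res j ⟨Q, υ x⟩).1 = M.asIdeal
    rw [← hτ, ker_res, ker_res]
    exact congrArg (Ideal.comap (chi Q).toRingHom) h1

end count

end Groth.Agent.BranchInv
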