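import Groth.Agent.BranchInv.Radicial
import Groth.Agent.S1182

/-!
# Normality of the base changes needed for branch invariance
-/

set_option autoImplicit false
set_option linter.style.haveILetI false

universe u

open IsLocalRing TensorProduct

namespace Groth.Agent.BranchInv

theorem isNormalRing_localization_tensor (R : Type u) {S : Type u} (Sl C : Type u) [CommRing R] [CommRing S]
    [CommRing Sl] [CommRing C] [Algebra R S] [Algebra R Sl] [Algebra S Sl] [IsScalarTower R S Sl]
    [Algebra R C] (M : Submonoid S) [IsLocalization M Sl] (h : EGA4.IsNormalRing (S ⊗[R] C)) :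
    EGA4.IsNormalRing (Sl ⊗[R] C) := by
  let ι : S ⊗[R] C →ₐ[R] Sl ⊗[R] C :=
    Algebra.TensorProduct.map (IsScalarTower.toAlgHom R S Sl) (AlgHom.id R C)
  letI := ι.toRingHom.toAlgebra
  haveI : IsScalarTower S (S ⊗[R] C) (Sl ⊗[R] C) := IsScalarTower.of_algebraMap_eq fun a => by
    simp only [RingHom.algebraMap_toAlgebra, ι, Algebra.TensorProduct.algebraMap_apply]
    rfl
  haveI := IsLocalization.tensorProduct_tensorProduct R C M Sl
    (RingHom.ext fun b => by simp [RingHom.algebraMap_toAlgebra, ι])
  exact NormalTensor.isNormalRing_localization (Algebra.algebraMapSubmonoid (S ⊗[R] C) M) h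

theorem isNormalRing_of_localized_base (R A B C : Type u) [CommRing R] [CommRing A] [CommRing B] [CommRing C]
    [Algebra R A] (M : Submonoid R) [IsLocalization M A] [Algebra R B] [Algebra A B] [IsScalarTower R A B]
    [Algebra R C] [Algebra A C] [IsScalarTower R A C] (h : EGA4.IsNormalRing (B ⊗[R] C)) :
    EGA4.IsNormalRing (B ⊗[A] C) :=
  NormalTensor.isNormalRing_of_ringEquiv
    (IsLocalization.algebraTensorEquiv (R := R) M A B C).symm.toRingEquiv h

theorem isNormalRing_normRed {A : Type u} [CommRing A] (p : Ideal A) [p.IsPrime] :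
    EGA4.IsNormalRing (CAlg2.normRed (A ⧸ p)) := by
  haveI := HensBranch.normRed_isIntegrallyClosed p
  exact NormalTensor.isNormalRing_of_domain _

theorem isNormalRing_smooth_localization (R S : Type u) [CommRing R] [CommRing S] [Algebra R S]
    [Algebra.Smooth R S] (A B : Type u) [CommRing A] [CommRing B] [Algebra R A] (M : Submonoid R)
    [IsLocalization M A] [Algebra R B] [Algebra S B] [IsScalarTower R S B] (M' : Submonoid S)
    [IsLocalization M' B] [Algebra A B] [IsScalarTower R A B] (p : Ideal A) [p.IsPrime] :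
    EGA4.IsNormalRing (B ⊗[A] CAlg2.normRed (A ⧸ p)) := by
  letI : Algebra R (CAlg2.normRed (A ⧸ p)) :=
    ((algebraMap A (CAlg2.normRed (A ⧸ p))).comp (algebraMap R A)).toAlgebra
  haveI : IsScalarTower R A (CAlg2.normRed (A ⧸ p)) := IsScalarTower.of_algebraMap_eq fun _ => rfl
  refine isNormalRing_of_localized_base R A B _ M (isNormalRing_localization_tensor R B _ M' ?_)
  exact NormalTensor.isNormalRing_of_ringEquiv
    (Algebra.TensorProduct.comm R (CAlg2.normRed (A ⧸ p)) S).toRingEquiv
    ((Groth.Agent.S1182.result (CAlg2.normRed (A ⧸ p)) (CAlg2.normRed (A ⧸ p) ⊗[R] S)).1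
      (isNormalRing_normRed p))

end Groth.Agent.BranchInv
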