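import Groth.Agent.BranchInv.NormalPoint
import Groth.Agent.BranchInv.Normal
import Groth.Agent.FppfSrc.FlatModel
import Groth.Agent.DimFormulaLib.Chart

/-!
# Normality of base changes at a point of a geometrically normal fibre
-/

set_option autoImplicit false
set_option linter.style.haveILetI false
set_option backward.isDefEq.respectTransparency false

universe u

open CategoryTheory CategoryTheory.Limits AlgebraicGeometry Groth.Agent.FibreDepth Groth.Agent.GeomRk TensorProduct

namespace Groth.Agent.BranchInv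

/-- Normality away from the zero locus of one element. -/
def NormalOff (T : Type u) [CommRing T] (g : T) : Prop :=
  ∀ (P : Ideal T) [P.IsPrime], g ∉ P →
    IsDomain (Localization.AtPrime P) ∧ IsIntegrallyClosed (Localization.AtPrime P)

theorem normalOff_of_away {T : Type u} [CommRing T] (g : T) (Tg : Type u) [CommRing Tg] [Algebra T Tg]
    [IsLocalization.Away g Tg] (h : EGA4.IsNormalRing Tg) : NormalOff T g := by
  intro P hP hg
  let P' := P.map (algebraMap T Tg)
  have hdisj : Disjoint (Submonoid.powers g : Set T) P := by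
    refine Set.disjoint_left.mpr ?_
    rintro _ ⟨n, rfl⟩ hn
    exact hg (hP.mem_of_pow_mem n hn)
  haveI : P'.IsPrime := IsLocalization.isPrime_of_isPrime_disjoint (Submonoid.powers g) _ P hP hdisj
  have hc : P'.comap (algebraMap T Tg) = P :=
    IsLocalization.under_map_of_isPrime_disjoint (Submonoid.powers g) _ hP hdisj
  haveI : IsLocalization.AtPrime (Localization.AtPrime P') (P'.comap (algebraMap T Tg)) :=
    IsLocalization.isLocalization_isLocalization_atPrime_isLocalization (Submonoid.powers g) (Localization.AtPrime P') P'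
  haveI : IsLocalization.AtPrime (Localization.AtPrime P') P := by
    convert ‹IsLocalization.AtPrime (Localization.AtPrime P') (P'.comap (algebraMap T Tg))› using 2
    exact hc.symm
  let e := (IsLocalization.algEquiv P.primeCompl (Localization.AtPrime P') (Localization.AtPrime P)).toRingEquiv
  obtain ⟨hd, hi⟩ := h P'
  haveI := hd
  haveI := hi
  haveI := e.symm.toMulEquiv.isDomain (Localization.AtPrime P')
  exact ⟨inferInstance, IsIntegrallyClosed.of_equiv e⟩

theorem NormalOff.of_ringEquiv {T T' : Type u} [CommRing T] [CommRing T'] (e : T ≃+* T') {g : T}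
    (h : NormalOff T g) : NormalOff T' (e g) := by
  intro P hP hg
  let Q := P.comap e.toRingHom
  haveI : Q.IsPrime := Ideal.IsPrime.comap _
  obtain ⟨hd, hi⟩ := h Q hg
  haveI := hd
  haveI := hi
  let E := IsLocalization.ringEquivOfRingEquiv (M := Q.primeCompl) (T := P.primeCompl)
    (Localization.AtPrime Q) (Localization.AtPrime P) e (by
      ext x
      constructor
      · rintro ⟨y, hy, rfl⟩
        exact hy
      · intro hx
        exact ⟨e.symm x, fun h => hx (by simpa [Q] using h), e.apply_symm_apply x⟩)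
  haveI := E.symm.toMulEquiv.isDomain (Localization.AtPrime Q)
  exact ⟨inferInstance, IsIntegrallyClosed.of_equiv E⟩

theorem NormalOff.isNormalRing {T X : Type u} [CommRing T] [CommRing X] [Algebra T X] (M : Submonoid T)
    [IsLocalization M X] {g : T} (h : NormalOff T g) (hg : IsUnit (algebraMap T X g)) :
    EGA4.IsNormalRing X := fun Q _ => by
  obtain ⟨hd, hi⟩ := h (Q.comap (algebraMap T X))
    (fun hm => Ideal.IsPrime.ne_top ‹Q.IsPrime› (Ideal.eq_top_of_isUnit_mem _ hm hg))
  haveI : IsLocalization.AtPrime (Localization.AtPrime Q) (Q.comap (algebraMap T X)) :=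
    IsLocalization.isLocalization_isLocalization_atPrime_isLocalization M (Localization.AtPrime Q) Q
  let e := (IsLocalization.algEquiv (Q.comap (algebraMap T X)).primeCompl
    (Localization.AtPrime (Q.comap (algebraMap T X))) (Localization.AtPrime Q)).toRingEquiv
  haveI := hd
  haveI := hi
  haveI := e.symm.toMulEquiv.isDomain (Localization.AtPrime (Q.comap (algebraMap T X)))
  exact ⟨inferInstance, IsIntegrallyClosed.of_equiv e⟩

theorem normalOff_tensor (R : Type u) {S : Type u} (C : Type u) [CommRing R] [CommRing S] [CommRing C]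
    [Algebra R S] [Algebra R C] (g : S) (Sg : Type u) [CommRing Sg] [Algebra R Sg] [Algebra S Sg]
    [IsScalarTower R S Sg] [IsLocalization.Away g Sg] (h : EGA4.IsNormalRing (Sg ⊗[R] C)) :
    NormalOff (S ⊗[R] C) (g ⊗ₜ[R] (1 : C)) := by
  let ι : S ⊗[R] C →ₐ[R] Sg ⊗[R] C :=
    Algebra.TensorProduct.map (IsScalarTower.toAlgHom R S Sg) (AlgHom.id R C)
  letI := ι.toRingHom.toAlgebra
  haveI : IsScalarTower S (S ⊗[R] C) (Sg ⊗[R] C) := IsScalarTower.of_algebraMap_eq fun a => by
    simp only [RingHom.algebraMap_toAlgebra, ι, Algebra.TensorProduct.algebraMap_apply]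
    rfl
  haveI hloc := IsLocalization.tensorProduct_tensorProduct R C (Submonoid.powers g) Sg
    (RingHom.ext fun b => by simp [RingHom.algebraMap_toAlgebra, ι])
  have hM : Algebra.algebraMapSubmonoid (S ⊗[R] C) (Submonoid.powers g) =
      Submonoid.powers (g ⊗ₜ[R] (1 : C)) := Submonoid.map_powers _ g
  haveI : IsLocalization.Away (g ⊗ₜ[R] (1 : C)) (Sg ⊗[R] C) := by
    show IsLocalization (Submonoid.powers _) _
    rw [← hM]
    exact hloc
  exact normalOff_of_away _ (Sg ⊗[R] C) h

section good

attribute [local instance] Algebra.TensorProduct.rightAlgebra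

/-- A flat algebra with good points has normal base changes to fields. -/
theorem fieldNormal_of_goodAt (R S : Type u) [CommRing R] [CommRing S] [Algebra R S]
    [Algebra.FinitePresentation R S] (h : ∀ P, GoodAt (specMap R S) P) : NormalTensor.FieldNormal R S := by
  intro K _ _
  refine NormalTensor.isNormalRing_of_ringEquiv (Algebra.TensorProduct.comm R K S).toRingEquiv fun Q hQ => ?_
  haveI := lfp_specMap R S
  have hsq := isPullback_specMap R K S (K ⊗[R] S)
  let z : PrimeSpectrum (K ⊗[R] S) := ⟨Q, hQ⟩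
  obtain ⟨hd, hi⟩ := normal_stalk_of_goodAt (specMap R S) hsq z (h _)
  haveI := hd
  haveI := hi
  let E := (Spec.stalkIso (CommRingCat.of (K ⊗[R] S)) z).commRingCatIsoToRingEquiv
  haveI := E.symm.toMulEquiv.isDomain _
  exact ⟨inferInstance, IsIntegrallyClosed.of_equiv E⟩

theorem isNormalRing_tensor_of_goodAt (R S : Type u) [CommRing R] [CommRing S] [Algebra R S]
    [Algebra.FinitePresentation R S] (q : PrimeSpectrum S) (hflat : ((specMap R S).stalkMap q).hom.Flat)
    (hq : GoodAt (specMap R S) q) [Module.Flat R S] (C : Type u) [CommRing C] [Algebra R C]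
    (hC : EGA4.IsNormalRing C) :
    ∃ g : S ⊗[R] C, NormalOff (S ⊗[R] C) g ∧
      IsUnit ((Algebra.TensorProduct.map (IsScalarTower.toAlgHom R S (Localization.AtPrime q.asIdeal))
        (AlgHom.id R C)) g) := by
  classical
  obtain ⟨R₀, S₀, _, _, hR₀, hfp, hfl, ⟨e⟩⟩ := FppfSrc.exists_flat_model R S
  haveI : Algebra.FiniteType ℤ R₀ := (Subalgebra.fg_iff_finiteType _).mp hR₀
  haveI : IsNoetherianRing R₀ := Algebra.FiniteType.isNoetherianRing ℤ R₀
  haveI := hfp
  haveI := hfl
  haveI : IsNoetherianRing S₀ := Algebra.FiniteType.isNoetherianRing R₀ S₀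
  let ψ : S₀ →+* S := e.symm.toRingHom.comp
    (Algebra.TensorProduct.includeRight : S₀ →ₐ[R₀] R ⊗[R₀] S₀).toRingHom
  letI : Algebra S₀ S := ψ.toAlgebra
  haveI : IsScalarTower R₀ S₀ S := IsScalarTower.of_algebraMap_eq fun a => by
    show algebraMap R S (algebraMap R₀ R a) =
      e.symm ((Algebra.TensorProduct.includeRight : S₀ →ₐ[R₀] R ⊗[R₀] S₀) (algebraMap R₀ S₀ a))
    rw [AlgHom.commutes, IsScalarTower.algebraMap_apply R₀ R (R ⊗[R₀] S₀), e.symm.commutes]
  haveI : Algebra.IsPushout R₀ R S₀ S := Algebra.IsPushout.of_equiv e.symm (RingHom.ext fun _ => rfl)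
  haveI := lfp_specMap R₀ S₀
  haveI := lfp_specMap R S
  haveI := flat_specMap R₀ S₀
  let q₀ : PrimeSpectrum S₀ := specMap S₀ S q
  have hq₀ : GoodAt (specMap R₀ S₀) q₀ := (goodAt_baseChange (specMap R₀ S₀) (isPullback_specMap R₀ R S₀ S) q).1 hq
  obtain ⟨_, ⟨g, rfl⟩, hgq, hgW⟩ := PrimeSpectrum.isTopologicalBasis_basic_opens.exists_subset_of_mem_open
    (show q₀ ∈ {x | ((specMap R₀ S₀).stalkMap x).hom.Flat ∧ GoodAt (specMap R₀ S₀) x} from
      ⟨Flat.stalkMap _ _, hq₀⟩) (isOpen_flat_goodAt (specMap R₀ S₀))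
  let Sg := Localization.Away g
  haveI : Algebra.FinitePresentation S₀ Sg := IsLocalization.Away.finitePresentation g
  haveI : Algebra.FinitePresentation R₀ Sg := Algebra.FinitePresentation.trans R₀ S₀ Sg
  haveI : Module.Flat R₀ Sg := inferInstance
  haveI : IsNoetherianRing Sg := IsLocalization.isNoetherianRing (Submonoid.powers g) _ inferInstance
  have hgood : ∀ P, GoodAt (specMap R₀ Sg) P := fun P => by
    haveI : IsOpenImmersion (specMap S₀ Sg) := IsOpenImmersion.of_isLocalization (R := S₀) g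
    have hcomp : specMap S₀ Sg ≫ specMap R₀ S₀ = specMap R₀ Sg := by
      rw [specMap, specMap, specMap, ← Spec.map_comp, ← CommRingCat.ofHom_comp, ← IsScalarTower.algebraMap_eq]
    refine (goodAt_congr hcomp P).1 ((goodAt_comp _ _ P).2 (hgW ?_).2)
    exact fun hm => P.isPrime.ne_top (Ideal.eq_top_of_isUnit_mem _
      (show algebraMap S₀ Sg g ∈ P.asIdeal from hm) (IsLocalization.Away.algebraMap_isUnit g))
  have hnorm : EGA4.IsNormalRing (Sg ⊗[R₀] C) :=
    NormalTensor.isNormalRing_tensor_of_fieldNormal R₀ Sg (fieldNormal_of_goodAt R₀ Sg hgood) C hC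
  let E : S₀ ⊗[R₀] C ≃+* S ⊗[R] C :=
    (Algebra.TensorProduct.comm R₀ S₀ C).toRingEquiv.trans
      ((Algebra.TensorProduct.cancelBaseChange R₀ R C C S₀).toRingEquiv.symm.trans
        ((Algebra.TensorProduct.congr (AlgEquiv.refl : C ≃ₐ[R] C) e.symm).toRingEquiv.trans
          (Algebra.TensorProduct.comm R C S).toRingEquiv))
  refine ⟨E (g ⊗ₜ[R₀] (1 : C)), (normalOff_tensor R₀ C g Sg hnorm).of_ringEquiv E, ?_⟩
  have hE : E (g ⊗ₜ[R₀] (1 : C)) = (algebraMap S₀ S g) ⊗ₜ[R] (1 : C) := by
    simp [E, RingHom.algebraMap_toAlgebra, ψ]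
  rw [hE, Algebra.TensorProduct.map_tmul, AlgHom.id_apply]
  refine (IsLocalization.map_units (Localization.AtPrime q.asIdeal)
    (⟨algebraMap S₀ S g, hgq⟩ : q.asIdeal.primeCompl)).map
      (Algebra.TensorProduct.includeLeft : Localization.AtPrime q.asIdeal →ₐ[R] Localization.AtPrime q.asIdeal ⊗[R] C)

end good

end Groth.Agent.BranchInv

namespace Groth.Agent.BranchInv

open TensorProduct

theorem isNormalRing_of_normalOff_tensor (R : Type u) {S : Type u} (Sl C : Type u) [CommRing R] [CommRing S]
    [CommRing Sl] [CommRing C] [Algebra R S] [Algebra R Sl] [Algebra S Sl] [IsScalarTower R S Sl]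
    [Algebra R C] (M : Submonoid S) [IsLocalization M Sl] {g : S ⊗[R] C} (h : NormalOff (S ⊗[R] C) g)
    (hg : IsUnit ((Algebra.TensorProduct.map (IsScalarTower.toAlgHom R S Sl) (AlgHom.id R C)) g)) :
    EGA4.IsNormalRing (Sl ⊗[R] C) := by
  let ι : S ⊗[R] C →ₐ[R] Sl ⊗[R] C :=
    Algebra.TensorProduct.map (IsScalarTower.toAlgHom R S Sl) (AlgHom.id R C)
  letI := ι.toRingHom.toAlgebra
  haveI : IsScalarTower S (S ⊗[R] C) (Sl ⊗[R] C) := IsScalarTower.of_algebraMap_eq fun a => by
    simp only [RingHom.algebraMap_toAlgebra, ι, Algebra.TensorProduct.algebraMap_apply]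
    rfl
  haveI := IsLocalization.tensorProduct_tensorProduct R C M Sl
    (RingHom.ext fun b => by simp [RingHom.algebraMap_toAlgebra, ι])
  exact h.isNormalRing (Algebra.algebraMapSubmonoid (S ⊗[R] C) M) hg

end Groth.Agent.BranchInv
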