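import Groth.Agent.GeomRk.NormalFlat
import Groth.Agent.S9437
import Groth.Agent.NormalTensor.Main

/-!
# Points of geometrically normal fibres: base change
-/

set_option autoImplicit false
set_option linter.style.haveILetI false
set_option backward.isDefEq.respectTransparency false

universe u

open CategoryTheory CategoryTheory.Limits AlgebraicGeometry Groth.Agent.FibreDepth Groth.Agent.GeomRk

namespace Groth.Agent.BranchInv

/-- The fibre through `x` is geometrically normal at `x`. -/
def GoodAt {X Y : Scheme.{u}} (f : X ⟶ Y) (x : X) : Prop :=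
  FibRk 1 f x ∧ LocCoh.HasSk 2 (fibreRingAt f x) (fibreRingAt f x)

variable {X Y : Scheme.{u}} (f : X ⟶ Y) [LocallyOfFinitePresentation f]

theorem goodAt_iff_fin (x : X) :
    (∀ (K : Type u) [Field K] [Algebra (IsLocalRing.ResidueField (Y.presheaf.stalk (f.base x))) K],
        Module.Finite (IsLocalRing.ResidueField (Y.presheaf.stalk (f.base x))) K →
        ∀ x' : ↥(FBase.bc (f.fiberToSpecResidueField (f.base x)) K),
          (FBase.bcπ (f.fiberToSpecResidueField (f.base x)) K).base x' = f.asFiber x →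
          IsDomain ((FBase.bc (f.fiberToSpecResidueField (f.base x)) K).presheaf.stalk x') ∧
            IsIntegrallyClosed ((FBase.bc (f.fiberToSpecResidueField (f.base x)) K).presheaf.stalk x')) ↔
      GoodAt f x := by
  refine ⟨fun h => ?_, fun h K _ _ _ => (geomNormal_any_iff_fibRk f x).2 h K⟩
  obtain ⟨⟨h1, -, -⟩, h2⟩ := (geomNormal_fin_iff f x).1 h
  exact ⟨h1, h2⟩

theorem isOpen_flat_goodAt : IsOpen {x : X | (f.stalkMap x).hom.Flat ∧ GoodAt f x} := by
  convert isOpen_flat_geomNormal f using 1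
  exact Set.ext fun x => and_congr_right fun _ => (goodAt_iff_fin f x).symm

variable {X' Y' : Scheme.{u}} {f' : X' ⟶ Y'} {g' : X' ⟶ X} {g : Y' ⟶ Y}

theorem goodAt_baseChange (hc : IsPullback g' f' f g) [LocallyOfFinitePresentation f'] (x' : X') :
    (GoodAt f' x' → GoodAt f (g' x')) ∧ (IsOpenImmersion g → GoodAt f (g' x') → GoodAt f' x') := by
  obtain ⟨a, hcomp, ha⟩ := exists_fibre_square hc (f' x')
  haveI := lfp_fibre f (g (f' x'))
  haveI := lfp_fibre f' (f' x')
  haveI := isLocallyNoetherian_fiber f (g (f' x'))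
  haveI := isLocallyNoetherian_fiber f' (f' x')
  haveI : AlgebraicGeometry.Flat a :=
    MorphismProperty.of_isPullback (P := @AlgebraicGeometry.Flat) ha.flip (flat_residueFieldMap g (f' x'))
  have hx : f.fiberι (g (f' x')) (a (f'.asFiber x')) = g' x' := by
    rw [← Scheme.Hom.comp_apply, hcomp, Scheme.Hom.comp_apply, f'.fiberι_asFiber]
  have hsk : LocCoh.HasSk 2 (fibreRingAt f (g' x')) (fibreRingAt f (g' x')) ↔
      LocCoh.HasSk 2 ((f.fiber (g (f' x'))).presheaf.stalk (a (f'.asFiber x')))
        ((f.fiber (g (f' x'))).presheaf.stalk (a (f'.asFiber x'))) := by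
    rw [← hx]
    exact (fib_transfer f (g (f' x')) (a (f'.asFiber x')) fun y v =>
      LocCoh.HasSk 2 ((f.fiber y).presheaf.stalk v) ((f.fiber y).presheaf.stalk v)).2
  constructor
  · rintro ⟨h1, h2⟩
    refine ⟨(fibRk_baseChange 1 hc x').1 h1, hsk.2 ?_⟩
    letI : Algebra ((f.fiber (g (f' x'))).presheaf.stalk (a (f'.asFiber x')))
        ((f'.fiber (f' x')).presheaf.stalk (f'.asFiber x')) := (a.stalkMap (f'.asFiber x')).hom.toAlgebra
    haveI : Module.Flat ((f.fiber (g (f' x'))).presheaf.stalk (a (f'.asFiber x')))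
        ((f'.fiber (f' x')).presheaf.stalk (f'.asFiber x')) := Flat.stalkMap a _
    haveI : IsLocalHom (algebraMap ((f.fiber (g (f' x'))).presheaf.stalk (a (f'.asFiber x')))
        ((f'.fiber (f' x')).presheaf.stalk (f'.asFiber x'))) := by
      rw [RingHom.algebraMap_toAlgebra]
      exact inferInstanceAs (IsLocalHom (a.stalkMap (f'.asFiber x')).hom)
    haveI := Module.FaithfullyFlat.of_flat_of_isLocalHom
      (A := (f.fiber (g (f' x'))).presheaf.stalk (a (f'.asFiber x')))
      (B := (f'.fiber (f' x')).presheaf.stalk (f'.asFiber x'))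
    exact (S9437.result 2 _ ((f'.fiber (f' x')).presheaf.stalk (f'.asFiber x')) h2).2
  · rintro hg ⟨h1, h2⟩
    refine ⟨(fibRk_baseChange 1 hc x').2 h1, ?_⟩
    haveI : IsIso (g.residueFieldMap (f' x')) := inferInstance
    haveI : IsIso a :=
      MorphismProperty.of_isPullback (P := MorphismProperty.isomorphisms Scheme.{u}) ha.flip
        (inferInstanceAs (IsIso (Spec.map (g.residueFieldMap (f' x')))))
    exact hasSk_of_ringEquiv (asIso (a.stalkMap (f'.asFiber x'))).commRingCatIsoToRingEquiv 2 (hsk.1 h2)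

/-- At a good point every base change to a field is a normal local domain. -/
theorem normal_stalk_of_goodAt {P : Scheme.{u}} {K : Type u} [Field K] {fst : P ⟶ X}
    {snd : P ⟶ Spec (CommRingCat.of K)} {φ : Spec (CommRingCat.of K) ⟶ Y} (h : IsPullback fst snd f φ)
    (z : P) (hz : GoodAt f (fst z)) :
    IsDomain (P.presheaf.stalk z) ∧ IsIntegrallyClosed (P.presheaf.stalk z) := by
  obtain ⟨⟨y, σ⟩, hy⟩ := (Scheme.SpecToEquivOfField K Y).symm.surjective φ
  have hfy : f (fst z) = y := by
    rw [← Scheme.Hom.comp_apply, h.w, Scheme.Hom.comp_apply, ← hy]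
    exact Y.fromSpecResidueField_apply y _
  subst hfy
  letI : Algebra (IsLocalRing.ResidueField (Y.presheaf.stalk (f.base (fst z)))) K := σ.hom.toAlgebra
  let F := f.fiberToSpecResidueField (f (fst z))
  have hσ : Spec.map (CommRingCat.ofHom
      (algebraMap (IsLocalRing.ResidueField (Y.presheaf.stalk (f.base (fst z)))) K)) = Spec.map σ := rfl
  have h2 : IsPullback (FBase.bcπ F K ≫ f.fiberι (f (fst z))) (pullback.snd F (Spec.map (CommRingCat.ofHom
      (algebraMap (IsLocalRing.ResidueField (Y.presheaf.stalk (f.base (fst z)))) K)))) f φ := by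
    rw [← hy]
    exact (IsPullback.of_hasPullback F _).paste_horiz
      (IsPullback.of_hasPullback f (Y.fromSpecResidueField (f (fst z))))
  let e := h.isoIsPullback _ _ h2
  have hfst : e.hom ≫ FBase.bcπ F K ≫ f.fiberι (f (fst z)) = fst := h.isoIsPullback_hom_fst _ _ h2
  have hz' : (FBase.bcπ F K).base (e.hom z) = f.asFiber (fst z) := by
    refine (f.fiberι (f (fst z))).isEmbedding.injective ?_
    rw [f.fiberι_asFiber]
    exact congrArg (fun m : P ⟶ X => m z) hfst
  obtain ⟨hd, hi⟩ := (geomNormal_any_iff_fibRk f (fst z)).2 hz K (e.hom z) hz'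
  haveI := hd
  haveI := hi
  let E := (asIso (e.hom.stalkMap z)).commRingCatIsoToRingEquiv
  exact ⟨E.symm.toMulEquiv.isDomain _, IsIntegrallyClosed.of_equiv E⟩

end Groth.Agent.BranchInv

namespace Groth.Agent.BranchInv

theorem goodAt_comp {Z X Y : Scheme.{u}} (j : Z ⟶ X) [IsOpenImmersion j] (f : X ⟶ Y)
    [LocallyOfFinitePresentation f] (z : Z) : GoodAt (j ≫ f) z ↔ GoodAt f (j z) := by
  haveI := isNoetherianRing_fibreRingAt f (j z)
  haveI := isNoetherianRing_fibreRingAt (j ≫ f) z
  obtain ⟨e⟩ := exists_fibreRing_equiv j f z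
  exact and_congr (fibRk_comp_openImmersion j f 1 z) (hasSk_congr e 2).symm

theorem goodAt_congr {X Y : Scheme.{u}} {f f' : X ⟶ Y} (h : f = f') (x : X) : GoodAt f x ↔ GoodAt f' x :=
  h ▸ Iff.rfl

end Groth.Agent.BranchInv
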