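import Groth.Agent.BranchInv.Frac

/-!
# Geometric branches as points of the normalisations
-/

set_option autoImplicit false
set_option linter.style.haveILetI false

universe u

open IsLocalRing

namespace Groth.Agent.BranchInv

/-- Geometric points of the normalisation of `A/p` over a point `j` of `A`. -/
def Pts {A C : Type u} [CommRing A] [CommRing C] (j : A →+* C) (p : Ideal A) : Type u :=
  {τ : CAlg2.normRed (A ⧸ p) →+* C // τ.comp (algebraMap A (CAlg2.normRed (A ⧸ p))) = j}

variable {A C : Type u} [CommRing A] [IsLocalRing A] [Field C] (j : A →+* C)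

theorem ker_isMaximal_pts (hj : RingHom.ker j = maximalIdeal A) {p : Ideal A} [p.IsPrime]
    (τ : Pts j p) : (RingHom.ker τ.1).IsMaximal := by
  haveI := HensBranch.normRed_isIntegral p
  haveI : (RingHom.ker τ.1).IsPrime := RingHom.ker_isPrime _
  refine Ideal.isMaximal_of_isIntegral_of_isMaximal_comap (R := A) _ ?_
  rw [RingHom.comap_ker, τ.2, hj]
  exact maximalIdeal.isMaximal A

theorem exists_sigma_emb_equiv [IsAlgClosed C] (hj : RingHom.ker j = maximalIdeal A) (p : Ideal A) [p.IsPrime] :
    ∃ e : (Σ M : MaximalSpectrum (CAlg2.normRed (A ⧸ p)), Brnch.Emb (A ⧸ p) M) ≃ Pts j p,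
      ∀ x, RingHom.ker (e x).1 = x.1.asIdeal := by
  classical
  let B := A ⧸ p
  haveI := HensBranch.normRed_isIntegral p
  haveI : IsLocalHom (Ideal.Quotient.mk p) :=
    Ideal.Quotient.mk_surjective.isLocalHom (f := Ideal.Quotient.mk p)
  let j' : B →+* C := Ideal.Quotient.lift p j fun a ha => by
    rw [← RingHom.mem_ker, hj]
    exact le_maximalIdeal (Ideal.IsPrime.ne_top ‹_›) ha
  have hj' : RingHom.ker j' = maximalIdeal B := by
    ext x
    obtain ⟨a, rfl⟩ := Ideal.Quotient.mk_surjective x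
    rw [RingHom.mem_ker, Ideal.Quotient.lift_mk, ← RingHom.mem_ker, hj, mem_maximalIdeal,
      mem_maximalIdeal, mem_nonunits_iff, mem_nonunits_iff, isUnit_map_iff]
  let jk : ResidueField B →+* C := Ideal.Quotient.lift (maximalIdeal B) j' fun a ha => hj'.ge ha
  letI : Algebra (ResidueField B) C := jk.toAlgebra
  haveI : Algebra.IsAlgebraic (ResidueField B) (AlgebraicClosure (ResidueField B)) :=
    AlgebraicClosure.isAlgebraic _
  let ι' : AlgebraicClosure (ResidueField B) →ₐ[ResidueField B] C := IsAlgClosed.lift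
  let ι : AlgebraicClosure (ResidueField B) →+* C := ι'.toRingHom
  have hι : ∀ a : A, ι (Brnch.toClosure B (Ideal.Quotient.mk p a)) = j a := fun a =>
    ι'.commutes (residue B (Ideal.Quotient.mk p a))
  have halg : ∀ a : A, algebraMap A (CAlg2.normRed B) a =
      NormalTensor.toNormRed B (Ideal.Quotient.mk p a) := fun a => rfl
  let G : (Σ M : MaximalSpectrum (CAlg2.normRed B), Brnch.Emb B M) → Pts j p := fun x =>
    ⟨(ι.comp x.2.1).comp (Ideal.Quotient.mk x.1.asIdeal), RingHom.ext fun a => by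
      rw [RingHom.comp_apply, RingHom.comp_apply, RingHom.comp_apply, ← hι a]
      exact congrArg ι (RingHom.congr_fun x.2.2 (Ideal.Quotient.mk p a))⟩
  have hk : ∀ x, RingHom.ker (G x).1 = x.1.asIdeal := fun x => by
    refine (x.1.isMaximal.eq_of_le (RingHom.ker_ne_top _) fun a ha => ?_).symm
    rw [RingHom.mem_ker]
    show ι (x.2.1 (Ideal.Quotient.mk x.1.asIdeal a)) = 0
    rw [Ideal.Quotient.eq_zero_iff_mem.mpr ha, map_zero, map_zero]
  refine ⟨Equiv.ofBijective G ⟨fun x y hxy => ?_, fun τ => ?_⟩, hk⟩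
  · obtain ⟨M, σ⟩ := x
    obtain ⟨M', σ'⟩ := y
    have hM : M.asIdeal = M'.asIdeal := by
      have := hk ⟨M, σ⟩
      rw [hxy, hk ⟨M', σ'⟩] at this
      exact this.symm
    obtain rfl : M = M' := MaximalSpectrum.ext hM
    have hh : (ι.comp σ.1).comp (Ideal.Quotient.mk M.asIdeal) =
        (ι.comp σ'.1).comp (Ideal.Quotient.mk M.asIdeal) := congrArg Subtype.val hxy
    refine congrArg _ (Subtype.ext (RingHom.ext fun z => ι.injective ?_))
    obtain ⟨z, rfl⟩ := Ideal.Quotient.mk_surjective z
    exact RingHom.congr_fun hh z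
  · letI : Algebra (AlgebraicClosure (ResidueField B)) C := ι.toAlgebra
    have hrange : ∀ x, τ.1 x ∈ ι.range := fun x => by
      obtain ⟨P, hP, h0⟩ := Algebra.IsIntegral.isIntegral (R := A) x
      have hi : IsIntegral (AlgebraicClosure (ResidueField B)) (τ.1 x) :=
        ⟨P.map ((Brnch.toClosure B).comp (Ideal.Quotient.mk p)), hP.map _, by
          rw [Polynomial.eval₂_map,
            show (algebraMap (AlgebraicClosure (ResidueField B)) C).comp
              ((Brnch.toClosure B).comp (Ideal.Quotient.mk p)) =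
              τ.1.comp (algebraMap A (CAlg2.normRed B)) from (RingHom.ext hι).trans τ.2.symm,
            ← Polynomial.hom_eval₂, h0, map_zero]⟩
      obtain ⟨c, hc⟩ := minpoly.degree_eq_one_iff.mp
        (IsAlgClosed.degree_eq_one_of_irreducible _ (minpoly.irreducible hi))
      exact ⟨c, hc⟩
    let e := RingEquiv.ofBijective ι.rangeRestrict
      ⟨fun a b h => ι.injective (congrArg Subtype.val h), ι.rangeRestrict_surjective⟩
    let τ' : CAlg2.normRed B →+* AlgebraicClosure (ResidueField B) :=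
      e.symm.toRingHom.comp (τ.1.codRestrict ι.range hrange)
    have hτ' : ∀ x, ι (τ' x) = τ.1 x := fun x =>
      congrArg Subtype.val (e.apply_symm_apply ⟨τ.1 x, hrange x⟩)
    have hker : RingHom.ker τ' = RingHom.ker τ.1 := by
      ext x
      rw [RingHom.mem_ker, RingHom.mem_ker, ← hτ' x, map_eq_zero_iff _ ι.injective]
    refine ⟨⟨⟨RingHom.ker τ.1, ker_isMaximal_pts j hj τ⟩,
      Ideal.Quotient.lift _ τ' (fun a ha => hker.ge ha), ?_⟩, ?_⟩
    · refine RingHom.ext fun b => ι.injective ?_
      obtain ⟨a, rfl⟩ := Ideal.Quotient.mk_surjective b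
      rw [hι a]
      exact (hτ' (algebraMap A (CAlg2.normRed B) a)).trans (RingHom.congr_fun τ.2 a)
    · exact Subtype.ext (RingHom.ext hτ')

theorem exists_pts_ker [IsAlgClosed C] (hj : RingHom.ker j = maximalIdeal A) (p : Ideal A) [p.IsPrime]
    (M : MaximalSpectrum (CAlg2.normRed (A ⧸ p))) : ∃ τ : Pts j p, RingHom.ker τ.1 = M.asIdeal := by
  obtain ⟨e, he⟩ := exists_sigma_emb_equiv j hj p
  obtain ⟨σ⟩ := (ENat.one_le_card_iff_nonempty _).mp (BranchLib.card_emb (A ⧸ p) M).1
  exact ⟨e ⟨M, σ⟩, he _⟩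

theorem nonempty_maximalSpectrum (p : Ideal A) [p.IsPrime] :
    Nonempty (MaximalSpectrum (CAlg2.normRed (A ⧸ p))) :=
  ⟨⟨_, (Ideal.exists_maximal (CAlg2.normRed (A ⧸ p))).choose_spec⟩⟩

theorem numGeomBranches_eq_card [IsAlgClosed C] (hj : RingHom.ker j = maximalIdeal A) :
    Brnch.numGeomBranches A = ENat.card (Σ p : minimalPrimes A, Pts j p.1) := by
  classical
  haveI : ∀ p : minimalPrimes A, p.1.IsPrime := fun p => p.2.1.1
  by_cases hfin : (minimalPrimes A).Finite
  · haveI : Fintype (minimalPrimes A) := hfin.fintype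
    rw [BranchLib.numGeomBranches_eq_finsum A hfin, BranchLib.enat_card_sigma, finsum_eq_sum_of_fintype]
    refine Finset.sum_congr rfl fun p _ => ?_
    obtain ⟨e, -⟩ := exists_sigma_emb_equiv j hj p.1
    rw [← ENat.card_congr e]
    unfold Brnch.numGeomBranches
    rw [if_pos (BranchLib.finite_minimalPrimes_quotient A p.1)]
  · haveI : Infinite (minimalPrimes A) := Set.infinite_coe_iff.mpr hfin
    haveI : Infinite (Σ p : minimalPrimes A, Pts j p.1) := Infinite.of_surjective Sigma.fst fun p => by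
      obtain ⟨M⟩ := nonempty_maximalSpectrum p.1
      exact ⟨⟨p, (exists_pts_ker j hj p.1 M).choose⟩, rfl⟩
    rw [ENat.card_eq_top_of_infinite]
    unfold Brnch.numGeomBranches
    rw [if_neg hfin]

theorem numBranches_eq_card :
    Brnch.numBranches A = ENat.card (Σ p : minimalPrimes A, MaximalSpectrum (CAlg2.normRed (A ⧸ p.1))) := by
  classical
  haveI : ∀ p : minimalPrimes A, p.1.IsPrime := fun p => p.2.1.1
  by_cases hfin : (minimalPrimes A).Finite
  · haveI : Fintype (minimalPrimes A) := hfin.fintype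
    rw [BranchLib.numBranches_eq_finsum A hfin, BranchLib.enat_card_sigma, finsum_eq_sum_of_fintype]
    refine Finset.sum_congr rfl fun p _ => ?_
    unfold Brnch.numBranches
    rw [if_pos (BranchLib.finite_minimalPrimes_quotient A p.1)]
  · haveI : Infinite (minimalPrimes A) := Set.infinite_coe_iff.mpr hfin
    haveI : Infinite (Σ p : minimalPrimes A, MaximalSpectrum (CAlg2.normRed (A ⧸ p.1))) :=
      Infinite.of_surjective Sigma.fst fun p => ⟨⟨p, (nonempty_maximalSpectrum p.1).some⟩, rfl⟩
    rw [ENat.card_eq_top_of_infinite]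
    unfold Brnch.numBranches
    rw [if_neg hfin]

end Groth.Agent.BranchInv
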