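import Groth.Agent.BranchInv.Main

/-!
# Geometric branches along radicial integral maps
-/

set_option autoImplicit false
set_option linter.style.haveILetI false

universe u

open IsLocalRing

namespace Groth.Agent.BranchInv

noncomputable section

variable {A B : Type u} [CommRing A] [CommRing B] [Algebra A B] (q : ℕ)

theorem isIntegral_of_pow (hq : q ≠ 0) (hpow : ∀ b : B, ∃ (n : ℕ) (a : A), algebraMap A B a = b ^ q ^ n) :
    Algebra.IsIntegral A B :=
  ⟨fun b => by
    obtain ⟨n, a, ha⟩ := hpow b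
    refine ⟨Polynomial.X ^ (q ^ n) - Polynomial.C a, Polynomial.monic_X_pow_sub_C a (pow_ne_zero _ hq), ?_⟩
    simp [ha]⟩

theorem comap_le_comap_iff (hq : q ≠ 0) (hpow : ∀ b : B, ∃ (n : ℕ) (a : A), algebraMap A B a = b ^ q ^ n)
    {Q Q' : Ideal B} [Q'.IsPrime] :
    Q.comap (algebraMap A B) ≤ Q'.comap (algebraMap A B) ↔ Q ≤ Q' := by
  refine ⟨fun h b hb => ?_, fun h => Ideal.comap_mono h⟩
  obtain ⟨n, a, ha⟩ := hpow b
  have h1 : a ∈ Q.comap (algebraMap A B) := by
    show algebraMap A B a ∈ Q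
    rw [ha]
    exact Ideal.pow_mem_of_mem Q hb _ (pow_pos (Nat.pos_of_ne_zero hq) n)
  have h2 : algebraMap A B a ∈ Q' := h h1
  rw [ha] at h2
  exact (‹Q'.IsPrime›).mem_of_pow_mem _ h2

theorem exists_equiv_minimalPrimes (hq : q ≠ 0)
    (hpow : ∀ b : B, ∃ (n : ℕ) (a : A), algebraMap A B a = b ^ q ^ n)
    (hker : RingHom.ker (algebraMap A B) ≤ nilradical A) :
    ∃ e : minimalPrimes B ≃ minimalPrimes A, ∀ Q, (e Q).1 = Q.1.comap (algebraMap A B) := by
  haveI := isIntegral_of_pow q hq hpow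
  have hex : ∀ p : Ideal A, p.IsPrime → ∃ Q : Ideal B, Q.IsPrime ∧ Q.comap (algebraMap A B) = p := by
    intro p hp
    obtain ⟨Q, -, hQ, hQp⟩ := Ideal.exists_ideal_over_prime_of_isIntegral (S := B) p ⊥
      (show RingHom.ker (algebraMap A B) ≤ p from hker.trans (nilradical_le_prime p))
    exact ⟨Q, hQ, hQp⟩
  have hmin : ∀ Q : Ideal B, Q ∈ minimalPrimes B → Q.comap (algebraMap A B) ∈ minimalPrimes A := by
    intro Q hQ
    haveI := hQ.1.1
    refine ⟨⟨inferInstance, bot_le⟩, fun p hp hle => ?_⟩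
    obtain ⟨Q', hQ', hQp⟩ := hex p hp.1
    rw [← hQp] at hle ⊢
    exact Ideal.comap_mono (hQ.2 ⟨hQ', bot_le⟩ ((comap_le_comap_iff q hq hpow).mp hle))
  refine ⟨Equiv.ofBijective (fun Q => ⟨_, hmin Q.1 Q.2⟩) ⟨fun Q Q' h => ?_, fun p => ?_⟩, fun Q => rfl⟩
  · haveI := Q.2.1.1
    haveI := Q'.2.1.1
    have h' : Q.1.comap (algebraMap A B) = Q'.1.comap (algebraMap A B) := congrArg Subtype.val h
    exact Subtype.ext (le_antisymm ((comap_le_comap_iff q hq hpow).mp h'.le)
      ((comap_le_comap_iff q hq hpow).mp h'.ge))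
  · obtain ⟨Q, hQ, hQp⟩ := hex p.1 p.2.1.1
    haveI := hQ
    obtain ⟨Q₀, hQ₀, hle⟩ := Ideal.exists_minimalPrimes_le (bot_le : (⊥ : Ideal B) ≤ Q)
    refine ⟨⟨Q₀, hQ₀⟩, Subtype.ext ?_⟩
    have h1 : Q₀.comap (algebraMap A B) ≤ p.1 := (Ideal.comap_mono hle).trans hQp.le
    exact le_antisymm h1 (p.2.2 (hmin Q₀ hQ₀).1 h1)

variable {p : Ideal A} [p.IsPrime]

theorem chi_injective (Q : Over' B p) : Function.Injective (chi Q) := by
  refine (injective_iff_map_eq_zero _).mpr fun x hx => ?_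
  obtain ⟨a, b, ha, hab⟩ := HensBranch.normRed_frac p x
  have h0 := congrArg (chi Q) hab
  rw [map_mul, hx, mul_zero, AlgHom.commutes, IsScalarTower.algebraMap_apply A B] at h0
  have h1 : algebraMap A B b ∈ Q.1.1 := by
    rw [← HensBranch.ker_algebraMap_normRed Q.1.1]
    exact RingHom.mem_ker.mpr h0.symm
  have h2 : algebraMap A (CAlg2.normRed (A ⧸ p)) b = 0 := by
    rw [← RingHom.mem_ker, HensBranch.ker_algebraMap_normRed]
    exact Q.2.le h1
  rw [h2] at hab
  exact (mul_eq_zero.mp hab).resolve_left ha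

theorem exists_chi_eq_pow (hq : q ≠ 0) (hpow : ∀ b : B, ∃ (n : ℕ) (a : A), algebraMap A B a = b ^ q ^ n)
    (Q : Over' B p) (y : CAlg2.normRed (B ⧸ Q.1.1)) :
    ∃ (n : ℕ) (z : CAlg2.normRed (A ⧸ p)), chi Q z = y ^ q ^ n := by
  haveI := isIntegral_of_pow q hq hpow
  let N := CAlg2.normRed (A ⧸ p)
  let N' := CAlg2.normRed (B ⧸ Q.1.1)
  haveI := HensBranch.normRed_isIntegral Q.1.1
  haveI : Algebra.IsIntegral A N' := Algebra.IsIntegral.trans B
  haveI := HensBranch.normRed_isIntegrallyClosed p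
  obtain ⟨a, b, ha, hab⟩ := HensBranch.normRed_frac Q.1.1 y
  obtain ⟨n, a', ha'⟩ := hpow a
  obtain ⟨m, b', hb'⟩ := hpow b
  let a₀ := algebraMap A N (a' ^ q ^ m)
  let b₀ := algebraMap A N (b' ^ q ^ n)
  let Y := y ^ q ^ (n + m)
  have ha0 : chi Q a₀ ≠ 0 := by
    rw [AlgHom.commutes, map_pow, IsScalarTower.algebraMap_apply A B, ha', map_pow, ← pow_mul]
    exact pow_ne_zero _ ha
  have hY : chi Q a₀ * Y = chi Q b₀ := by
    have hab' : algebraMap B N' a * y = algebraMap B N' b := hab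
    rw [AlgHom.commutes, AlgHom.commutes, map_pow, map_pow, IsScalarTower.algebraMap_apply A B, ha',
      IsScalarTower.algebraMap_apply A B N' b', hb', map_pow, map_pow, ← hab', mul_pow, mul_pow,
      ← pow_mul, ← pow_mul, ← pow_mul, ← pow_add, ← pow_add, Nat.add_comm m n]
  let F := FractionRing N
  let F' := FractionRing N'
  let g : N →ₐ[A] F' := (IsScalarTower.toAlgHom A N' F').comp (chi Q)
  have hg : Function.Injective g := (IsFractionRing.injective N' F').comp (chi_injective Q)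
  let G : F →ₐ[A] F' := IsFractionRing.liftAlgHom hg
  let z : F := algebraMap N F b₀ / algebraMap N F a₀
  have hGz : G z = algebraMap N' F' Y := by
    rw [map_div₀, IsFractionRing.liftAlgHom_apply, IsFractionRing.liftAlgHom_apply,
      IsFractionRing.lift_algebraMap, IsFractionRing.lift_algebraMap, div_eq_iff (by
        show algebraMap N' F' (chi Q a₀) ≠ 0
        exact (map_ne_zero_iff _ (IsFractionRing.injective N' F')).mpr ha0)]
    show algebraMap N' F' (chi Q b₀) = algebraMap N' F' Y * algebraMap N' F' (chi Q a₀)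
    rw [← map_mul, mul_comm, hY]
  have hz : IsIntegral A z := by
    rw [← isIntegral_algHom_iff G G.toRingHom.injective, hGz]
    exact (Algebra.IsIntegral.isIntegral Y).algebraMap
  obtain ⟨w, hw⟩ := IsIntegrallyClosed.isIntegral_iff.mp (hz.tower_top (A := N))
  refine ⟨n + m, w, IsFractionRing.injective N' F' ?_⟩
  rw [← hGz, ← hw, IsFractionRing.liftAlgHom_apply, IsFractionRing.lift_algebraMap]
  rfl

variable {C : Type u} [Field C] (j : B →+* C)

theorem res_bijective_of_pow [IsAlgClosed C] [ExpChar C q] [IsLocalRing B] (hq : q ≠ 0)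
    (hpow : ∀ b : B, ∃ (n : ℕ) (a : A), algebraMap A B a = b ^ q ^ n)
    (hkA : (RingHom.ker (j.comp (algebraMap A B))).IsMaximal)
    [Subsingleton (Over' B p)] [Nonempty (Over' B p)] :
    Function.Bijective (res (p := p) j) := by
  constructor
  · rintro ⟨Q, υ⟩ ⟨Q', υ'⟩ h
    obtain rfl : Q = Q' := Subsingleton.elim _ _
    refine congrArg _ (Subtype.ext (RingHom.ext fun y => ?_))
    obtain ⟨n, z, hz⟩ := exists_chi_eq_pow q hq hpow Q y
    refine (iterateFrobenius C q n).injective ?_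
    rw [iterateFrobenius_def, iterateFrobenius_def, ← map_pow, ← map_pow, ← hz]
    exact RingHom.congr_fun (congrArg Subtype.val h) z
  · intro τ
    obtain ⟨Q⟩ := ‹Nonempty (Over' B p)›
    let N := CAlg2.normRed (A ⧸ p)
    let N' := CAlg2.normRed (B ⧸ Q.1.1)
    letI : Algebra N N' := (chi Q).toRingHom.toAlgebra
    haveI : Algebra.IsIntegral N N' := ⟨fun y => by
      obtain ⟨n, z, hz⟩ := exists_chi_eq_pow q hq hpow Q y
      refine ⟨Polynomial.X ^ (q ^ n) - Polynomial.C z, Polynomial.monic_X_pow_sub_C z (pow_ne_zero _ hq), ?_⟩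
      rw [Polynomial.eval₂_sub, Polynomial.eval₂_pow, Polynomial.eval₂_X, Polynomial.eval₂_C,
        RingHom.algebraMap_toAlgebra]
      exact sub_eq_zero.mpr hz.symm⟩
    haveI : (RingHom.ker τ.1).IsPrime := RingHom.ker_isPrime _
    haveI := HensBranch.normRed_isIntegral p
    haveI hmax : (RingHom.ker τ.1).IsMaximal := by
      refine Ideal.isMaximal_of_isIntegral_of_isMaximal_comap (R := A) _ ?_
      rw [RingHom.comap_ker, τ.2]
      exact hkA
    obtain ⟨P, -, hP, hPτ⟩ := Ideal.exists_ideal_over_prime_of_isIntegral (S := N') (RingHom.ker τ.1) ⊥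
      (show RingHom.ker (algebraMap N N') ≤ _ from fun x hx => by
        rw [chi_injective Q (show chi Q x = chi Q 0 from (RingHom.mem_ker.mp hx).trans (map_zero _).symm)]
        exact Ideal.zero_mem _)
    haveI := hP
    let θ : N ⧸ RingHom.ker τ.1 →+* N' ⧸ P := Ideal.quotientMap P (algebraMap N N') hPτ.ge
    have hθ : @RingHom.IsIntegral (N ⧸ RingHom.ker τ.1) (N' ⧸ P) (Ideal.Quotient.commRing _)
        (Ideal.Quotient.commRing _).toRing θ := by
      refine @RingHom.IsIntegral.tower_top N (N ⧸ RingHom.ker τ.1) (N' ⧸ P) _ (Ideal.Quotient.commRing _)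
        (Ideal.Quotient.commRing _) (Ideal.Quotient.mk (RingHom.ker τ.1)) θ ?_
      rw [show θ.comp (Ideal.Quotient.mk (RingHom.ker τ.1)) = (Ideal.Quotient.mk P).comp (algebraMap N N') from
        RingHom.ext fun x => Ideal.quotientMap_mk (H := hPτ.ge)]
      exact RingHom.IsIntegral.trans _ _ (algebraMap_isIntegral_iff.mpr inferInstance)
        (RingHom.isIntegral_of_surjective _ Ideal.Quotient.mk_surjective)
    obtain ⟨σ, hσ⟩ := BranchLib.exists_extension
      ((Ideal.Quotient.maximal_ideal_iff_isField_quotient _).mp hmax) θ hθ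
      (Ideal.Quotient.lift _ τ.1 fun a ha => ha)
    let υ : N' →+* C := σ.comp (Ideal.Quotient.mk P)
    have hυ : ∀ z, υ (chi Q z) = τ.1 z := fun z => RingHom.congr_fun hσ (Ideal.Quotient.mk _ z)
    refine ⟨⟨Q, υ, RingHom.ext fun b => ?_⟩, Subtype.ext (RingHom.ext hυ)⟩
    obtain ⟨n, a, ha⟩ := hpow b
    refine (iterateFrobenius C q n).injective ?_
    rw [iterateFrobenius_def, iterateFrobenius_def, RingHom.comp_apply, ← map_pow, ← map_pow j, ← ha,
      ← map_pow (algebraMap B N'), ← ha, ← IsScalarTower.algebraMap_apply A B N', ← (chi Q).commutes, hυ]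
    exact RingHom.congr_fun τ.2 a

end

section count

variable (A B : Type u) [CommRing A] [CommRing B] [IsLocalRing A] [IsLocalRing B] [Algebra A B]
  [IsLocalHom (algebraMap A B)]

/-- Radicial integral maps preserve geometric branches. -/
theorem numGeomBranches_eq_of_pow (q : ℕ) [ExpChar (ResidueField B) q]
    (hpow : ∀ b : B, ∃ (n : ℕ) (a : A), algebraMap A B a = b ^ q ^ n)
    (hker : RingHom.ker (algebraMap A B) ≤ nilradical A) :
    Brnch.numGeomBranches B = Brnch.numGeomBranches A := by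
  classical
  let C := AlgebraicClosure (ResidueField B)
  haveI : ExpChar C q := expChar_of_injective_ringHom (algebraMap (ResidueField B) C).injective q
  have hq : q ≠ 0 := (expChar_pos C q).ne'
  let j : B →+* C := Brnch.toClosure B
  have hj : RingHom.ker j = maximalIdeal B := by
    show RingHom.ker ((algebraMap (ResidueField B) C).comp (residue B)) = _
    rw [RingHom.ker_comp_of_injective _ (algebraMap (ResidueField B) C).injective]
    exact Ideal.mk_ker
  obtain ⟨e, he⟩ := exists_equiv_minimalPrimes q hq hpow hker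
  rw [numGeomBranches_eq_card j hj, numGeomBranches_eq_card (j.comp (algebraMap A B)) (ker_comp hj)]
  let Φ : (Σ Q : minimalPrimes B, Pts j Q.1) ≃ Σ p : minimalPrimes A, Σ Q : Over' B p.1, Pts j Q.1.1 :=
    { toFun := fun x => ⟨e x.1, ⟨x.1, (he _).symm⟩, x.2⟩
      invFun := fun x => ⟨x.2.1.1, x.2.2⟩
      left_inv := fun x => rfl
      right_inv := by
        rintro ⟨p, ⟨Q, hQ⟩, y⟩
        obtain rfl : e Q = p := Subtype.ext ((he Q).trans hQ)
        rfl }
  rw [ENat.card_congr Φ]
  refine ENat.card_congr (Equiv.sigmaCongrRight fun p => ?_)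
  haveI := p.2.1.1
  haveI : Subsingleton (Over' B p.1) := ⟨fun Q Q' => Subtype.ext (e.injective
    (Subtype.ext ((he _).trans (Q.2.trans (Q'.2.symm.trans (he _).symm)))))⟩
  haveI : Nonempty (Over' B p.1) := ⟨⟨e.symm p, by rw [← he, e.apply_symm_apply]⟩⟩
  exact Equiv.ofBijective _ (res_bijective_of_pow q j hq hpow
    (by rw [ker_comp hj]; exact maximalIdeal.isMaximal A))

end count

end Groth.Agent.BranchInv
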