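import Groth.Agent.BranchInv.Birational
import Groth.Agent.Unibranch.Open
import Groth.Agent.SteinConn.Unibranch
import Groth.Prelude.Def_EGA4Misc

/-!
# Radicial points, birational integral morphisms
-/

set_option autoImplicit false
set_option linter.style.haveILetI false
set_option backward.isDefEq.respectTransparency false

universe u

open CategoryTheory CategoryTheory.Limits AlgebraicGeometry IsLocalRing

namespace Groth.Agent.BranchInv

variable {X Y : Scheme.{u}}

/-- Field valued points over `y` are determined by their images. -/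
def PtsInj (f : X ⟶ Y) (y : Y) : Prop :=
  ∀ (K : Type u) [Field K] (a b : Spec (CommRingCat.of K) ⟶ X), a ≫ f = b ≫ f →
    (a ≫ f) (closedPoint K) = y → a = b

theorem fromSpecResidueField_pt (X : Scheme.{u}) (x : X) {K : Type u} [Field K] (c : X.residueField x ⟶ CommRingCat.of K) :
    (Spec.map c ≫ X.fromSpecResidueField x) (closedPoint K) = x := by
  rw [Scheme.Hom.comp_apply]
  exact Scheme.fromSpecResidueField_apply x _

theorem universallyInjective_iff_ptsInj (f : X ⟶ Y) : UniversallyInjective f ↔ ∀ y, PtsInj f y := by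
  rw [(tfae_universallyInjective f).out 0 1 rfl rfl]
  exact ⟨fun h y K _ a b hab _ => h K hab, fun h K _ a b hab => h _ K a b hab rfl⟩

theorem eq_of_pow_eq {F K : Type u} [Field F] [Field K] (ρ : F →+* K) [Algebra F K] {L : Type u} [Field L]
    (h : (algebraMap F K) = ρ) [IsPurelyInseparable F K] (α β : K →+* L) (hab : α.comp ρ = β.comp ρ) : α = β := by
  subst h
  let q := ringExpChar K
  haveI : ExpChar K q := ringExpChar.expChar _
  haveI : ExpChar F q := ((algebraMap F K).expChar_iff (RingHom.injective _) _).mpr inferInstance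
  haveI : ExpChar L q := expChar_of_injective_ringHom α.injective q
  refine RingHom.ext fun z => ?_
  obtain ⟨n, r, hr⟩ := IsPurelyInseparable.pow_mem F q z
  refine (iterateFrobenius L q n).injective ?_
  rw [iterateFrobenius_def, iterateFrobenius_def, ← map_pow, ← map_pow, ← hr]
  exact RingHom.congr_fun hab r

theorem isRadicialAt_iff_ptsInj (f : X ⟶ Y) (y : Y) : RadPt.IsRadicialAt f y ↔ PtsInj f y := by
  constructor
  · rintro ⟨hinj, hpi⟩ K _ a b hab hy
    obtain ⟨⟨x, α⟩, ha⟩ := (Scheme.SpecToEquivOfField K X).symm.surjective a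
    obtain ⟨⟨x', β⟩, hb⟩ := (Scheme.SpecToEquivOfField K X).symm.surjective b
    change Spec.map α ≫ X.fromSpecResidueField x = a at ha
    change Spec.map β ≫ X.fromSpecResidueField x' = b at hb
    have hx : f x = y := by
      rw [← hy, ← ha, Scheme.Hom.comp_apply, fromSpecResidueField_pt]
    have hx' : f x' = y := by
      rw [← hy, hab, ← hb, Scheme.Hom.comp_apply, fromSpecResidueField_pt]
    obtain rfl := hinj x x' hx hx'
    subst ha hb
    rw [Category.assoc, Category.assoc, ← Scheme.Hom.SpecMap_residueFieldMap_fromSpecResidueField f x,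
      ← Category.assoc, ← Category.assoc, cancel_mono, ← Spec.map_comp, ← Spec.map_comp] at hab
    letI : Algebra (Y.residueField (f x)) (X.residueField x) := (f.residueFieldMap x).hom.toAlgebra
    haveI : IsPurelyInseparable (Y.residueField (f x)) (X.residueField x) := hpi x hx
    have := eq_of_pow_eq (f.residueFieldMap x).hom rfl α.hom β.hom
      (congrArg CommRingCat.Hom.hom (Spec.map_injective hab))
    rw [CommRingCat.hom_ext this]
  · intro h
    refine ⟨fun x x' hx hx' => ?_, fun x hx => ?_⟩
    · have h1 : ∃ (K : Type u) (_ : Field K) (a b : Spec (CommRingCat.of K) ⟶ X), a (closedPoint K) = x ∧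
          b (closedPoint K) = x' ∧ a ≫ f = b ≫ f := by
        obtain ⟨c, hc⟩ := eq_desc_comp (X.fromSpecResidueField x' ≫ f) (s := f x)
          ((congrArg f (Scheme.fromSpecResidueField_apply x' _)).trans (hx'.trans hx.symm))
        obtain ⟨ρ', rfl⟩ := Spec.map_surjective c
        letI : Algebra (Y.residueField (f x)) (X.residueField x) := (f.residueFieldMap x).hom.toAlgebra
        letI : Algebra (Y.residueField (f x)) (X.residueField x') := ρ'.hom.toAlgebra
        let T := TensorProduct (Y.residueField (f x)) (X.residueField x) (X.residueField x')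
        haveI : Nontrivial T :=
          Algebra.TensorProduct.nontrivial_of_algebraMap_injective_of_flat_left _ _ _ (RingHom.injective _)
        obtain ⟨M, hM⟩ := Ideal.exists_maximal T
        let i₁ : X.residueField x →+* T ⧸ M := (Ideal.Quotient.mk M).comp Algebra.TensorProduct.includeLeftRingHom
        let i₂ : X.residueField x' →+* T ⧸ M := (Ideal.Quotient.mk M).comp Algebra.TensorProduct.includeRight.toRingHom
        have h12 : i₁.comp (f.residueFieldMap x).hom = i₂.comp ρ'.hom := RingHom.ext fun z =>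
          congrArg (Ideal.Quotient.mk M) (Algebra.TensorProduct.tmul_one_eq_one_tmul z)
        refine ⟨T ⧸ M, Ideal.Quotient.field M, Spec.map (CommRingCat.ofHom i₁) ≫ X.fromSpecResidueField x,
          Spec.map (CommRingCat.ofHom i₂) ≫ X.fromSpecResidueField x', ?_, ?_, ?_⟩
        · rw [Scheme.Hom.comp_apply]; exact Scheme.fromSpecResidueField_apply x _
        · rw [Scheme.Hom.comp_apply]; exact Scheme.fromSpecResidueField_apply x' _
        · rw [Category.assoc, Category.assoc, hc, ← Scheme.Hom.SpecMap_residueFieldMap_fromSpecResidueField f x,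
            ← Category.assoc, ← Category.assoc, ← Spec.map_comp, ← Spec.map_comp]
          exact congrArg (fun m => Spec.map m ≫ Y.fromSpecResidueField (f x)) (CommRingCat.hom_ext h12)
      obtain ⟨K, _, a, b, ha, hb, hab⟩ := h1
      rw [← ha, ← hb, h K a b hab (by rw [Scheme.Hom.comp_apply, ha, hx])]
    · letI : Algebra (Y.residueField (f x)) (X.residueField x) := (f.residueFieldMap x).hom.toAlgebra
      show IsPurelyInseparable (Y.residueField (f x)) (X.residueField x)
      refine isPurelyInseparable_of_finSepDegree_eq_one ?_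
      rw [Field.finSepDegree, Nat.card_eq_one_iff_unique]
      refine ⟨⟨fun α β => ?_⟩, ⟨IsScalarTower.toAlgHom (Y.residueField (f x)) (X.residueField x)
        (AlgebraicClosure (X.residueField x))⟩⟩
      have hab : (Spec.map (CommRingCat.ofHom α.toRingHom) ≫ X.fromSpecResidueField x) ≫ f =
          (Spec.map (CommRingCat.ofHom β.toRingHom) ≫ X.fromSpecResidueField x) ≫ f := by
        rw [Category.assoc, Category.assoc, ← Scheme.Hom.SpecMap_residueFieldMap_fromSpecResidueField f x,
          ← Category.assoc, ← Category.assoc, ← Spec.map_comp, ← Spec.map_comp]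
        exact congrArg (fun m => Spec.map m ≫ Y.fromSpecResidueField (f x))
          (CommRingCat.hom_ext (α.comp_algebraMap.trans β.comp_algebraMap.symm))
      have h2 := h _ _ _ hab (by rw [Scheme.Hom.comp_apply, fromSpecResidueField_pt, hx])
      exact AlgHom.coe_ringHom_injective (congrArg CommRingCat.Hom.hom
        (Spec.map_injective ((cancel_mono _).1 h2)))

theorem mem_genericPoints_iff (x : X) : x ∈ genericPoints X ↔ ∀ x', x' ⤳ x → x' = x := by
  refine ⟨fun h => Unibranch.max_of_component h isGenericPoint_closure, fun h => ?_⟩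
  obtain ⟨Z, hZ, hg⟩ := Unibranch.exists_component_of_max x h
  show closure {x} ∈ irreducibleComponents X
  rwa [hg.def]

theorem fromSpec_mem_genericPoints_iff {U : X.Opens} (hU : IsAffineOpen U) (q : PrimeSpectrum Γ(X, U)) :
    hU.fromSpec q ∈ genericPoints X ↔ q.asIdeal ∈ minimalPrimes Γ(X, U) := by
  rw [mem_genericPoints_iff]
  have hs : ∀ a b : PrimeSpectrum Γ(X, U), hU.fromSpec a ⤳ hU.fromSpec b ↔ a.asIdeal ≤ b.asIdeal := fun a b =>
    hU.fromSpec.isOpenEmbedding.isInducing.specializes_iff.trans (PrimeSpectrum.le_iff_specializes a b).symm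
  constructor
  · intro h
    refine ⟨⟨q.isPrime, bot_le⟩, fun P hP hle => ?_⟩
    have := hU.fromSpec.isOpenEmbedding.injective (h _ ((hs ⟨P, hP.1⟩ q).2 hle))
    exact (congrArg PrimeSpectrum.asIdeal this).ge
  · intro h x' hx'
    obtain ⟨a, rfl⟩ := hx'.mem_open hU.fromSpec.isOpenEmbedding.isOpen_range ⟨q, rfl⟩
    have hle := (hs a q).1 hx'
    exact congrArg _ (PrimeSpectrum.ext (hle.antisymm (h.2 ⟨a.isPrime, bot_le⟩ hle)))

/-- The residue field at a point of an affine open consists of fractions. -/
theorem exists_eval_hom {U : Y.Opens} (hU : IsAffineOpen U) (p : PrimeSpectrum Γ(Y, U)) :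
    ∃ ε : Γ(Y, U) →+* Y.residueField (hU.fromSpec p),
      Spec.map (CommRingCat.ofHom ε) ≫ hU.fromSpec = Y.fromSpecResidueField _ ∧
      RingHom.ker ε = p.asIdeal ∧ ∀ z, ∃ a c, ε a ≠ 0 ∧ ε a * z = ε c := by
  let K := Y.residueField (hU.fromSpec p)
  have hr : Set.range (Y.fromSpecResidueField (hU.fromSpec p)) ⊆ Set.range hU.fromSpec := by
    rw [Scheme.range_fromSpecResidueField, Set.singleton_subset_iff]
    exact ⟨p, rfl⟩
  obtain ⟨ε, hε⟩ := Spec.map_surjective (IsOpenImmersion.lift hU.fromSpec _ hr)
  have he : Spec.map ε ≫ hU.fromSpec = Y.fromSpecResidueField _ := by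
    rw [hε, IsOpenImmersion.lift_fac]
  have hker : RingHom.ker ε.hom = p.asIdeal := by
    have h := congrArg (fun m => m (closedPoint K)) he
    simp only [Scheme.Hom.comp_apply] at h
    have h2 := hU.fromSpec.isOpenEmbedding.injective (h.trans (Scheme.fromSpecResidueField_apply _ _))
    ext a
    rw [RingHom.mem_ker, ← comap_maximalIdeal_field ε.hom a]
    exact SetLike.ext_iff.mp (congrArg PrimeSpectrum.asIdeal h2) a
  refine ⟨ε.hom, he, hker, fun z => ?_⟩
  let R := p.asIdeal.ResidueField
  have hu : p.asIdeal.primeCompl ≤ Submonoid.comap ε.hom (IsUnit.submonoid K) :=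
    fun a ha => isUnit_iff_ne_zero.2 fun h0 => ha (hker.le h0)
  let η : R →+* K := Ideal.ResidueField.lift p.asIdeal ε.hom hker.ge hu
  have hpt : (Spec.map (CommRingCat.ofHom (algebraMap Γ(Y, U) R)) ≫ hU.fromSpec) (closedPoint R) = hU.fromSpec p := by
    rw [Scheme.Hom.comp_apply]
    refine congrArg _ (PrimeSpectrum.ext (Ideal.ext fun a => ?_))
    exact (comap_maximalIdeal_field (algebraMap Γ(Y, U) R) a).trans Ideal.algebraMap_residueField_eq_zero
  obtain ⟨c, hc⟩ := eq_desc_comp _ hpt
  obtain ⟨θ, rfl⟩ := Spec.map_surjective c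
  have hηε : CommRingCat.ofHom (algebraMap Γ(Y, U) R) ≫ CommRingCat.ofHom η = ε :=
    CommRingCat.hom_ext (RingHom.ext fun a => Ideal.ResidueField.lift_algebraMap p.asIdeal ε.hom hker.ge hu a)
  have hid : θ ≫ CommRingCat.ofHom η = 𝟙 _ := by
    apply Spec.map_injective
    rw [← cancel_mono (Y.fromSpecResidueField (hU.fromSpec p)), Spec.map_comp, Category.assoc, ← hc,
      ← Category.assoc, ← Spec.map_comp, hηε, he, Spec.map_id]
    exact (Category.id_comp _).symm
  obtain ⟨r, hrz⟩ : ∃ r, η r = z := ⟨θ.hom z, RingHom.congr_fun (congrArg CommRingCat.Hom.hom hid) z⟩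
  obtain ⟨a, b, hb, rfl⟩ := IsFractionRing.div_surjective (A := Γ(Y, U) ⧸ p.asIdeal) r
  obtain ⟨a, rfl⟩ := Ideal.Quotient.mk_surjective a
  obtain ⟨b, rfl⟩ := Ideal.Quotient.mk_surjective b
  have hb0 : b ∉ p.asIdeal := fun h => nonZeroDivisors.ne_zero hb (Ideal.Quotient.eq_zero_iff_mem.mpr h)
  have hεb : ε.hom b ≠ 0 := fun h => hb0 (hker.le h)
  refine ⟨b, a, hεb, ?_⟩
  rw [← hrz, map_div₀]
  have e : ∀ x : Γ(Y, U), η (algebraMap (Γ(Y, U) ⧸ p.asIdeal) R (Ideal.Quotient.mk p.asIdeal x)) = ε.hom x :=
    fun x => Ideal.ResidueField.lift_algebraMap p.asIdeal ε.hom hker.ge hu x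
  rw [e, e, mul_div_cancel₀ _ hεb]

end Groth.Agent.BranchInv
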